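import Groth.Prelude.Def_HTop
import Mathlib.AlgebraicGeometry.ValuativeCriterion
import Mathlib.AlgebraicGeometry.Morphisms.Separated

/-!
Stability properties of standard V coverings and V coverings.
-/

set_option autoImplicit false
set_option linter.style.haveILetI false
set_option backward.isDefEq.respectTransparency false
universe w w' w'' u

open CategoryTheory CategoryTheory.Limits AlgebraicGeometry

namespace Groth.Agent.HTopV

variable {T T' : Scheme.{u}}

theorem isExtVal_id (V : CommRingCat.{u}) [IsDomain V] [ValuationRing V] :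
    HTop.IsExtVal V V (𝟙 V) :=
  ⟨Function.injective_id, ⟨fun _ h => h⟩⟩

theorem isExtVal_comp {V W W' : CommRingCat.{u}} [IsDomain V] [ValuationRing V] [IsDomain W]
    [ValuationRing W] [IsDomain W'] [ValuationRing W'] {φ : V ⟶ W} {ψ : W ⟶ W'}
    (h : HTop.IsExtVal V W φ) (h' : HTop.IsExtVal W W' ψ) : HTop.IsExtVal V W' (φ ≫ ψ) := by
  haveI := h.2
  haveI := h'.2
  exact ⟨h'.1.comp h.1, RingHom.isLocalHom_comp ψ.hom φ.hom⟩

theorem hasValLift_pullback₁ (g : T' ⟶ T) {E : PreZeroHypercover.{w} T} (hE : HTop.HasValLift E) :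
    HTop.HasValLift (E.pullback₁ g) := by
  intro V _ _ t
  obtain ⟨W, i1, i2, φ, hφ, j, g', hg'⟩ := hE V (t ≫ g)
  refine ⟨W, i1, i2, φ, hφ, j, ?_, ?_⟩
  · exact pullback.lift (Spec.map φ ≫ t) g' (by rw [Category.assoc]; exact hg'.symm)
  · exact pullback.lift_fst _ _ _

theorem hasValLift_bind {E : PreZeroHypercover.{w} T} (hE : HTop.HasValLift E)
    (F : ∀ j, PreZeroHypercover.{w'} (E.X j)) (hF : ∀ j, HTop.HasValLift (F j)) :
    HTop.HasValLift (E.bind F) := by
  intro V _ _ t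
  obtain ⟨W, i1, i2, φ, hφ, j, g', hg'⟩ := hE V t
  haveI := i1
  haveI := i2
  obtain ⟨W', i1', i2', ψ, hψ, i, g'', hg''⟩ := hF j W g'
  haveI := i1'
  haveI := i2'
  refine ⟨W', i1', i2', φ ≫ ψ, isExtVal_comp hφ hψ, ⟨j, i⟩, g'', ?_⟩
  show g'' ≫ (F j).f i ≫ E.f j = _
  rw [reassoc_of% hg'', hg', Spec.map_comp, Category.assoc]

theorem isAffine_pullback {X Y Z : Scheme.{u}} [IsAffine X] [IsAffine Y] [IsAffine Z]
    (f : X ⟶ Z) (g : Y ⟶ Z) : IsAffine (pullback f g) := inferInstance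

theorem isStandardV_pullback₁ [IsAffine T'] (g : T' ⟶ T) {E : PreZeroHypercover.{w} T}
    (hE : HTop.IsStandardV E) : HTop.IsStandardV (E.pullback₁ g) where
  isAffine := inferInstance
  finite_index := hE.finite_index
  isAffine_obj j := by
    haveI := hE.isAffine
    haveI := hE.isAffine_obj j
    exact isAffine_pullback g (E.f j)
  lift := hasValLift_pullback₁ g hE.lift

theorem isStandardV_bind {E : PreZeroHypercover.{w} T} (hE : HTop.IsStandardV E)
    (F : ∀ j, PreZeroHypercover.{w'} (E.X j)) (hF : ∀ j, HTop.IsStandardV (F j)) :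
    HTop.IsStandardV (E.bind F) where
  isAffine := hE.isAffine
  finite_index := by
    haveI := hE.finite_index
    haveI := fun j => (hF j).finite_index
    exact inferInstanceAs (Finite (Σ j : E.I₀, (F j).I₀))
  isAffine_obj j := (hF j.1).isAffine_obj j.2
  lift := hasValLift_bind hE.lift F fun j => (hF j).lift

theorem refinesOver_trans {U T : Scheme.{u}} {g : U ⟶ T} {F : PreZeroHypercover.{w'} U}
    {E : PreZeroHypercover.{w} T} (G : PreZeroHypercover.{w''} U) (h : HTop.RefinesOver (𝟙 U) G F)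
    (h' : HTop.RefinesOver g F E) : HTop.RefinesOver g G E := fun j => by
  obtain ⟨i, a, ha⟩ := h j
  obtain ⟨k, b, hb⟩ := h' i
  rw [Category.comp_id] at ha
  exact ⟨k, a ≫ b, by rw [Category.assoc, hb, reassoc_of% ha]⟩

theorem isStandardV_reindex {E : PreZeroHypercover.{w} T} (hE : HTop.IsStandardV E) {ι : Type w'}
    (e : ι ≃ E.I₀) : HTop.IsStandardV (E.reindex e) where
  isAffine := hE.isAffine
  finite_index := haveI := hE.finite_index; Finite.of_equiv _ e.symm
  isAffine_obj j := hE.isAffine_obj (e j)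
  lift := fun V _ _ t => by
    obtain ⟨W, i1, i2, φ, hφ, j, g', hg'⟩ := hE.lift V t
    obtain ⟨j, rfl⟩ := e.surjective j
    exact ⟨W, i1, i2, φ, hφ, j, g', hg'⟩

/-- A finite standard covering can be re-indexed in universe zero. -/
theorem exists_small {U : Scheme.{u}} {g : U ⟶ T} {F : PreZeroHypercover.{w'} U}
    {E : PreZeroHypercover.{w} T} (hF : HTop.IsStandardV F) (h : HTop.RefinesOver g F E) :
    ∃ G : PreZeroHypercover.{0} U, HTop.IsStandardV G ∧ HTop.RefinesOver g G E := by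
  haveI := hF.finite_index
  obtain ⟨n, ⟨e⟩⟩ := Finite.exists_equiv_fin F.I₀
  exact ⟨F.reindex e.symm, isStandardV_reindex hF e.symm, fun j => h (e.symm j)⟩

theorem exists_fac_of_closedPoint_mem {X : Scheme.{u}} {V : CommRingCat.{u}} [IsLocalRing V]
    (t : Spec V ⟶ X) {A : Scheme.{u}} (i : A ⟶ X) [IsOpenImmersion i]
    (h : t (IsLocalRing.closedPoint V) ∈ Set.range i) : ∃ l : Spec V ⟶ A, l ≫ i = t := by
  refine ⟨IsOpenImmersion.lift i t ?_, IsOpenImmersion.lift_fac _ _ _⟩
  rintro - ⟨p, rfl⟩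
  exact ((IsLocalRing.specializes_closedPoint p).map t.continuous).mem_open i.isOpenEmbedding.isOpen_range h

theorem hasValLift_of_jointlySurjective {E : PreZeroHypercover.{w} T} [∀ i, IsOpenImmersion (E.f i)]
    (hE : ∀ x : T, ∃ i, x ∈ Set.range (E.f i)) : HTop.HasValLift E := by
  intro V _ _ t
  obtain ⟨i, hi⟩ := hE (t (IsLocalRing.closedPoint V))
  obtain ⟨l, hl⟩ := exists_fac_of_closedPoint_mem t (E.f i) hi
  exact ⟨V, inferInstance, inferInstance, 𝟙 V, isExtVal_id V, i, l,
    by rw [hl, Spec.map_id, Category.id_comp]⟩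

/-- Over an affine scheme a family which admits local refinements admits a standard one. -/
theorem exists_isStandardV_of_local {U : Scheme.{u}} [IsAffine U] (g : U ⟶ T)
    (E : PreZeroHypercover.{w} T)
    (h : ∀ x : U, ∃ (W : U.Opens) (_ : IsAffineOpen W) (_ : x ∈ W)
      (F : PreZeroHypercover.{0} (W : Scheme.{u})),
      HTop.IsStandardV F ∧ HTop.RefinesOver (W.ι ≫ g) F E) :
    ∃ G : PreZeroHypercover.{0} U, HTop.IsStandardV G ∧ HTop.RefinesOver g G E := by
  choose W hW hxW F hF hFE using h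
  obtain ⟨s, hs⟩ := isCompact_univ.elim_finite_subcover (fun x => (W x : Set U))
    (fun x => (W x).2) (fun x _ => Set.mem_iUnion.mpr ⟨x, hxW x⟩)
  let C : PreZeroHypercover.{u} U := ⟨{x // x ∈ s}, fun x => W x.1, fun x => (W x.1).ι⟩
  have hC : HTop.IsStandardV C :=
    { isAffine := inferInstance
      finite_index := inferInstanceAs (Finite {x // x ∈ s})
      isAffine_obj := fun x => hW x.1
      lift := by
        haveI : ∀ i, IsOpenImmersion (C.f i) := fun x =>
          inferInstanceAs (IsOpenImmersion (W x.1).ι)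
        refine hasValLift_of_jointlySurjective fun x => ?_
        obtain ⟨y, hy, hxy⟩ := Set.mem_iUnion₂.mp (hs (Set.mem_univ x))
        exact ⟨⟨y, hy⟩, by rw [show Set.range (C.f ⟨y, hy⟩) = (W y : Set U) from
          Scheme.Opens.range_ι _]; exact hxy⟩ }
  refine exists_small (F := C.bind fun x => F x.1) (isStandardV_bind hC _ fun x => hF x.1) ?_
  rintro ⟨x, i⟩
  obtain ⟨k, a, ha⟩ := hFE x.1 i
  exact ⟨k, a, by rw [ha]; exact (Category.assoc _ _ _).symm⟩

theorem exists_isStandardV_refining {U : Scheme.{u}} [IsAffine U] (g : U ⟶ T)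
    {E : PreZeroHypercover.{w} T} (hE : HTop.IsVCover E) :
    ∃ G : PreZeroHypercover.{0} U, HTop.IsStandardV G ∧ HTop.RefinesOver g G E := by
  refine exists_isStandardV_of_local g E fun x => ?_
  obtain ⟨_, ⟨A, hA, rfl⟩, hxA, -⟩ :=
    T.isBasis_affineOpens.exists_subset_of_mem_open (Set.mem_univ (g x)) isOpen_univ
  obtain ⟨_, ⟨W, hW, rfl⟩, hxW, hWA⟩ :=
    U.isBasis_affineOpens.exists_subset_of_mem_open (show x ∈ g ⁻¹ᵁ A from hxA) (g ⁻¹ᵁ A).2
  obtain ⟨F, hF, hFE⟩ := hE ⟨A, hA⟩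
  change U.Opens at W
  change T.Opens at A
  let g' : (W : Scheme.{u}) ⟶ (A : Scheme.{u}) := g.resLE A W hWA
  haveI : IsAffine W := hW
  refine ⟨W, hW, hxW, F.pullback₁ g', isStandardV_pullback₁ g' hF, fun j => ?_⟩
  obtain ⟨k, a, ha⟩ := hFE j
  refine ⟨k, pullback.snd g' (F.f j) ≫ a, ?_⟩
  show (pullback.snd g' (F.f j) ≫ a) ≫ E.f k = pullback.fst g' (F.f j) ≫ Scheme.Opens.ι W ≫ g
  rw [Category.assoc, ha, ← pullback.condition_assoc]
  congr 1
  exact Scheme.Hom.resLE_comp_ι g hWA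

theorem isVCover_pullback₁ (g : T' ⟶ T) {E : PreZeroHypercover.{w} T} (hE : HTop.IsVCover E) :
    HTop.IsVCover (E.pullback₁ g) := fun U => by
  haveI : IsAffine (U : T'.Opens) := U.2
  obtain ⟨G, hG, hGE⟩ := exists_isStandardV_refining ((U : T'.Opens).ι ≫ g) hE
  refine ⟨G, hG, fun j => ?_⟩
  obtain ⟨k, a, ha⟩ := hGE j
  exact ⟨k, pullback.lift (G.f j ≫ (U : T'.Opens).ι) a (by rw [Category.assoc]; exact ha.symm),
    pullback.lift_fst _ _ _⟩

theorem isVCover_bind {E : PreZeroHypercover.{w} T} (hE : HTop.IsVCover E)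
    (F : ∀ i, PreZeroHypercover.{w'} (E.X i)) (hF : ∀ i, HTop.IsVCover (F i)) :
    HTop.IsVCover (E.bind F) := fun U => by
  haveI : IsAffine (U : T.Opens) := U.2
  obtain ⟨G, hG, hGE⟩ := hE U
  choose k a ha using hGE
  have := fun j => haveI := hG.isAffine_obj j; exists_isStandardV_refining (a j) (hF (k j))
  choose H hH hHF using this
  refine exists_small (F := G.bind H) (isStandardV_bind hG H hH) ?_
  rintro ⟨j, i⟩
  obtain ⟨l, b, hb⟩ := hHF j i
  refine ⟨⟨k j, l⟩, b, ?_⟩
  show b ≫ (F (k j)).f l ≫ E.f (k j) = ((H j).f i ≫ G.f j) ≫ _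
  rw [reassoc_of% hb, ha, Category.assoc]

section specialization

variable {Z : Scheme.{u}}

/-- A specialization is realised by a valuation ring. -/
theorem exists_spec_valuationRing {z' z : Z} (h : z' ⤳ z) :
    ∃ (V : CommRingCat.{u}) (_ : IsDomain V) (_ : ValuationRing V) (g : Spec V ⟶ Z),
      g ⟨⊥, Ideal.isPrime_bot⟩ = z' ∧ g (IsLocalRing.closedPoint V) = z := by
  let φ : Z.presheaf.stalk z ⟶ Z.residueField z' :=
    Z.presheaf.stalkSpecializes h ≫ Z.residue z'
  obtain ⟨A, hA, hA'⟩ := IsLocalRing.exists_factor_valuationRing φ.hom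
  let ψ : Z.presheaf.stalk z ⟶ CommRingCat.of A := CommRingCat.ofHom (φ.hom.codRestrict _ hA)
  have hw : Spec.map (CommRingCat.ofHom (algebraMap A (Z.residueField z'))) ≫ Spec.map ψ ≫
      Z.fromSpecStalk z = Z.fromSpecResidueField z' := by
    rw [Scheme.fromSpecResidueField, ← Scheme.SpecMap_stalkSpecializes_fromSpecStalk h,
      ← Spec.map_comp_assoc, ← Spec.map_comp_assoc]
    rfl
  refine ⟨CommRingCat.of A, inferInstance, inferInstance, Spec.map ψ ≫ Z.fromSpecStalk z, ?_, ?_⟩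
  · have h1 := congrArg (fun m => m.base (IsLocalRing.closedPoint (Z.residueField z'))) hw
    refine Eq.trans ?_ (h1.trans (Z.fromSpecResidueField_apply z' _))
    refine congrArg (Spec.map ψ ≫ Z.fromSpecStalk z).base (PrimeSpectrum.ext (Ideal.ext fun a => ?_))
    show a ∈ (⊥ : Ideal A) ↔ algebraMap A (Z.residueField z') a ∈
      IsLocalRing.maximalIdeal (Z.residueField z')
    rw [IsLocalRing.mem_maximalIdeal, mem_nonunits_iff, isUnit_iff_ne_zero, not_not, Ideal.mem_bot,
      map_eq_zero_iff _ (IsFractionRing.injective A (Z.residueField z'))]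
  · rw [Scheme.Hom.comp_apply]
    have : Spec.map ψ (IsLocalRing.closedPoint (CommRingCat.of A)) =
        IsLocalRing.closedPoint (Z.presheaf.stalk z) :=
      IsLocalRing.comap_closedPoint (S := A) (φ.hom.codRestrict A.toSubring hA)
    rw [this, Z.fromSpecStalk_closedPoint]

theorem isExtVal_of_apply {V W : CommRingCat.{u}} [IsDomain V] [ValuationRing V] [IsDomain W]
    [ValuationRing W] (φ : V ⟶ W)
    (h0 : Spec.map φ ⟨⊥, Ideal.isPrime_bot⟩ = ⟨⊥, Ideal.isPrime_bot⟩)
    (h1 : Spec.map φ (IsLocalRing.closedPoint W) = IsLocalRing.closedPoint V) :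
    HTop.IsExtVal V W φ := by
  refine ⟨(injective_iff_map_eq_zero φ.hom).mpr fun a ha => ?_,
    ((IsLocalRing.local_hom_TFAE φ.hom).out 0 3).mpr ?_⟩
  · have : a ∈ (Spec.map φ ⟨⊥, Ideal.isPrime_bot⟩).asIdeal := by
      show φ.hom a ∈ (⊥ : Ideal W)
      rw [ha]; exact zero_mem _
    rw [h0] at this
    exact this
  · exact le_of_eq (congrArg PrimeSpectrum.asIdeal h1).symm

end specialization

end Groth.Agent.HTopV
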