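import Groth.Agent.HTopV.Basic
import Mathlib.AlgebraicGeometry.PullbackCarrier

/-!
Base change of standard ph coverings.
-/

set_option autoImplicit false
set_option linter.style.haveILetI false
set_option backward.isDefEq.respectTransparency false
universe w w' u

open CategoryTheory CategoryTheory.Limits AlgebraicGeometry

namespace Groth.Agent.HTopV

theorem isStandardPh_pullback₁ {T T' : Scheme.{u}} [IsAffine T'] (g : T' ⟶ T)
    {E : PreZeroHypercover.{w} T} (hE : HTop.IsStandardPh E) :
    HTop.IsStandardPh (E.pullback₁ g) where
  isAffine := inferInstance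
  finite_index := hE.finite_index
  isAffine_obj j := by
    haveI := hE.isAffine
    haveI := hE.isAffine_obj j
    exact isAffine_pullback g (E.f j)
  exists_proper := by
    obtain ⟨U, f, ι, hp, hs, ho, hf, hc⟩ := hE.exists_proper
    haveI := hp
    haveI := hs
    have hι : ∀ j, IsPullback (pullback.map g (E.f j) g f (𝟙 T') (ι j) (𝟙 T) (by simp)
        (by simp [hf j])) (pullback.snd g (E.f j)) (pullback.snd g f) (ι j) := fun j => by
      refine IsPullback.of_bot ?_ (by simp) (IsPullback.of_hasPullback g f).flip |>.flip
      simp only [pullback.lift_fst, Category.comp_id, hf j]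
      exact (IsPullback.of_hasPullback g (E.f j)).flip
    refine ⟨pullback g f, pullback.fst g f, fun j => pullback.map g (E.f j) g f (𝟙 T') (ι j) (𝟙 T)
      (by simp) (by simp [hf j]), MorphismProperty.pullback_fst _ _ hp,
      MorphismProperty.pullback_fst _ _ hs,
      fun j => MorphismProperty.of_isPullback (hι j).flip (ho j),
      fun j => by simp, fun x => ?_⟩
    obtain ⟨j, y, hy⟩ := hc (pullback.snd g f x)
    obtain ⟨z, hz, -⟩ := Scheme.exists_preimage_of_isPullback (hι j) x y hy.symm
    exact ⟨j, z, hz⟩

end Groth.Agent.HTopV
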