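import Groth.Agent.HTopV.Basic
import Mathlib.AlgebraicGeometry.Sites.Fpqc
import Mathlib.AlgebraicGeometry.Morphisms.UniversallyOpen

/-!
The valuative lifting property through specializations; fpqc coverings are V coverings.
-/

set_option autoImplicit false
set_option linter.style.haveILetI false
set_option backward.isDefEq.respectTransparency false
universe w w' w'' u

open CategoryTheory CategoryTheory.Limits AlgebraicGeometry

namespace Groth.Agent.HTopV

variable {T : Scheme.{u}}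

theorem hasValLift_of_specializes {E : PreZeroHypercover.{w} T}
    (h : ∀ (V : CommRingCat.{u}) [IsDomain V] [ValuationRing V] (t : Spec V ⟶ T),
      ∃ (j : E.I₀) (w' w : ↑(pullback t (E.f j))), w' ⤳ w ∧
        pullback.fst t (E.f j) w' = ⟨⊥, Ideal.isPrime_bot⟩ ∧
        pullback.fst t (E.f j) w = IsLocalRing.closedPoint V) :
    HTop.HasValLift E := by
  intro V _ _ t
  obtain ⟨j, w', w, hs, h', hw⟩ := h V t
  obtain ⟨W, i1, i2, l, hl', hl⟩ := exists_spec_valuationRing hs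
  haveI := i1
  haveI := i2
  obtain ⟨φ, hφ⟩ := Spec.map_surjective (l ≫ pullback.fst t (E.f j))
  refine ⟨W, i1, i2, φ, isExtVal_of_apply φ ?_ ?_, j, l ≫ pullback.snd t (E.f j), ?_⟩
  · rw [hφ, Scheme.Hom.comp_apply, hl', h']
  · rw [hφ, Scheme.Hom.comp_apply, hl, hw]
  · rw [hφ, Category.assoc, Category.assoc, ← pullback.condition]

theorem exists_specializes_of_hasValLift {X : Scheme.{u}} (f : X ⟶ T)
    (h : HTop.HasValLift (PreZeroHypercover.singleton.{w} f)) {Z : Scheme.{u}} (g : Z ⟶ T)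
    {z' z : Z} (hz : z' ⤳ z) :
    ∃ w' w : ↑(pullback g f), w' ⤳ w ∧ pullback.fst g f w' = z' ∧ pullback.fst g f w = z := by
  obtain ⟨V, i1, i2, t, ht', ht⟩ := exists_spec_valuationRing hz
  haveI := i1
  haveI := i2
  obtain ⟨W, j1, j2, φ, hφ, j, g', hg'⟩ := h V (t ≫ g)
  haveI := j1
  haveI := j2
  let l : Spec W ⟶ X := g'
  have hl : l ≫ f = Spec.map φ ≫ t ≫ g := hg'
  let m : Spec W ⟶ pullback g f := pullback.lift (Spec.map φ ≫ t) l (by rw [Category.assoc, hl])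
  refine ⟨m ⟨⊥, Ideal.isPrime_bot⟩, m (IsLocalRing.closedPoint W),
    (IsLocalRing.specializes_closedPoint _).map m.continuous, ?_, ?_⟩
  · rw [← Scheme.Hom.comp_apply, pullback.lift_fst, Scheme.Hom.comp_apply, ← ht']
    congr 1
    refine PrimeSpectrum.ext (Ideal.ext fun a => ?_)
    show φ.hom a ∈ (⊥ : Ideal W) ↔ a ∈ (⊥ : Ideal V)
    rw [Ideal.mem_bot, Ideal.mem_bot, map_eq_zero_iff _ hφ.1]
  · rw [← Scheme.Hom.comp_apply, pullback.lift_fst, Scheme.Hom.comp_apply, ← ht]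
    congr 1
    haveI := hφ.2
    exact IsLocalRing.comap_closedPoint φ.hom

theorem hasValLift_singleton_iff {X : Scheme.{u}} (f : X ⟶ T) :
    HTop.HasValLift (PreZeroHypercover.singleton.{w} f) ↔
      ∀ (Z : Scheme.{u}) (g : Z ⟶ T) (z' z : Z), z' ⤳ z → ∃ w' w : ↑(pullback g f),
        w' ⤳ w ∧ pullback.fst g f w' = z' ∧ pullback.fst g f w = z :=
  ⟨fun h _ g _ _ hz => exists_specializes_of_hasValLift f h g hz, fun h =>
    hasValLift_of_specializes fun V _ _ t => ⟨PUnit.unit,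
      h (Spec V) t ⟨⊥, Ideal.isPrime_bot⟩ (IsLocalRing.closedPoint V)
        (IsLocalRing.specializes_closedPoint _)⟩⟩

theorem hasValLift_of_flat {E : PreZeroHypercover.{w} T} (hflat : ∀ j, Flat (E.f j))
    (hsurj : ∀ t : T, ∃ (j : E.I₀) (x : E.X j), E.f j x = t) : HTop.HasValLift E := by
  refine hasValLift_of_specializes fun V _ _ t => ?_
  obtain ⟨j, x, hx⟩ := hsurj (t (IsLocalRing.closedPoint V))
  obtain ⟨p, hp, -⟩ := Scheme.Pullback.exists_preimage_pullback (f := t) (g := E.f j)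
    (IsLocalRing.closedPoint V) x hx.symm
  haveI := hflat j
  haveI : Flat (pullback.fst t (E.f j)) := MorphismProperty.pullback_fst _ _ inferInstance
  obtain ⟨p', hp', hp''⟩ := Flat.generalizingMap (pullback.fst t (E.f j))
    (show (⟨⊥, Ideal.isPrime_bot⟩ : Spec V) ⤳ pullback.fst t (E.f j) p by
      rw [hp]; exact IsLocalRing.specializes_closedPoint _)
  exact ⟨j, p', p, hp', hp'', hp⟩

theorem isVCover_of_fpqc (𝒰 : Scheme.Cover.{w} Scheme.fpqcPrecoverage T) :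
    HTop.IsVCover 𝒰.toPreZeroHypercover := fun U => by
  have hmem := 𝒰.mem₀
  haveI : QuasiCompactCover 𝒰.toPreZeroHypercover :=
    Scheme.presieve₀_mem_qcPrecoverage_iff.mp hmem.1
  have hflat : ∀ i, Flat (𝒰.f i) := ((Scheme.presieve₀_mem_precoverage_iff _).mp hmem.2).2
  obtain ⟨n, k, V, hV, hVU⟩ :=
    QuasiCompactCover.exists_isAffineOpen_of_isCompact 𝒰.toPreZeroHypercover U.2.isCompact
  have hle : ∀ i, V i ≤ 𝒰.f (k i) ⁻¹ᵁ (U : T.Opens) := fun i x hx => by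
    show 𝒰.f (k i) x ∈ ((U : T.Opens) : Set T)
    rw [← hVU]
    exact Set.mem_iUnion.mpr ⟨i, x, hx, rfl⟩
  let F : PreZeroHypercover.{0} ((U : T.Opens) : Scheme.{u}) :=
    ⟨Fin n, fun i => V i, fun i => (𝒰.f (k i)).resLE (U : T.Opens) (V i) (hle i)⟩
  refine ⟨F, ⟨U.2, inferInstanceAs (Finite (Fin n)), hV, hasValLift_of_flat (fun i => ?_)
    fun t => ?_⟩, fun i => ⟨k i, (V i).ι, ?_⟩⟩
  · haveI := hflat (k i)
    show Flat ((𝒰.f (k i)).resLE (U : T.Opens) (V i) (hle i))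
    rw [Scheme.Hom.resLE]
    infer_instance
  · have : t.1 ∈ ((U : T.Opens) : Set T) := t.2
    rw [← hVU] at this
    obtain ⟨i, x, hx, hxt⟩ := Set.mem_iUnion.mp this
    refine ⟨i, (⟨x, hx⟩ : V i), Subtype.ext ?_⟩
    refine Eq.trans ?_ hxt
    exact congrArg (fun m => m.base (⟨x, hx⟩ : V i))
      (Scheme.Hom.resLE_comp_ι (𝒰.f (k i)) (hle i))
  · exact (Scheme.Hom.resLE_comp_ι (𝒰.f (k i)) (hle i)).symm

theorem hasValLift_of_isVCover {E : PreZeroHypercover.{w} T} (hE : HTop.IsVCover E) :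
    HTop.HasValLift E := by
  intro V _ _ t
  obtain ⟨_, ⟨A, hA, rfl⟩, hxA, -⟩ := T.isBasis_affineOpens.exists_subset_of_mem_open
    (Set.mem_univ (t (IsLocalRing.closedPoint V))) isOpen_univ
  obtain ⟨F, hF, hFE⟩ := hE ⟨A, hA⟩
  obtain ⟨l, hl⟩ := exists_fac_of_closedPoint_mem t (Scheme.Opens.ι A)
    (by rw [Scheme.Opens.range_ι]; exact hxA)
  obtain ⟨W, i1, i2, φ, hφ, j, g', hg'⟩ := hF.lift V l
  obtain ⟨k, a, ha⟩ := hFE j
  refine ⟨W, i1, i2, φ, hφ, k, g' ≫ a, ?_⟩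
  rw [Category.assoc, ha, reassoc_of% hg', hl]

theorem isVCover_of_hasValLift {X : Scheme.{u}} (f : X ⟶ T) [QuasiCompact f]
    (h : HTop.HasValLift (PreZeroHypercover.singleton.{w} f)) :
    HTop.IsVCover (PreZeroHypercover.singleton.{w} f) := fun U => by
  obtain ⟨s, hs, hsf, hsU⟩ := X.isBasis_affineOpens.exists_finite_of_isCompact
    (f.isCompact_preimage (U := (U : T.Opens)) U.2.isCompact)
  haveI : Finite s := hsf.to_subtype
  have hle : ∀ A : s, (A.1 : X.Opens) ≤ f ⁻¹ᵁ (U : T.Opens) := fun A =>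
    hsU.symm ▸ le_sSup A.2
  let F : PreZeroHypercover.{u} ((U : T.Opens) : Scheme.{u}) :=
    ⟨s, fun A => (A.1 : X.Opens), fun A => f.resLE (U : T.Opens) A.1 (hle A)⟩
  refine exists_small (F := F) ⟨U.2, inferInstanceAs (Finite s), fun A => hs A.2, ?_⟩
    fun A => ⟨PUnit.unit, Scheme.Opens.ι A.1, (Scheme.Hom.resLE_comp_ι f (hle A)).symm⟩
  intro V _ _ t
  obtain ⟨W, i1, i2, φ, hφ, j, g', hg'⟩ := h V (t ≫ (U : T.Opens).ι)
  haveI := i1
  haveI := i2
  let l : Spec W ⟶ X := g'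
  have hl : l ≫ f = Spec.map φ ≫ t ≫ (U : T.Opens).ι := hg'
  have hmem : l (IsLocalRing.closedPoint W) ∈ f ⁻¹ᵁ (U : T.Opens) := by
    show f (l (IsLocalRing.closedPoint W)) ∈ (U : T.Opens)
    rw [← Scheme.Hom.comp_apply, hl, Scheme.Hom.comp_apply, Scheme.Hom.comp_apply]
    exact Subtype.prop _
  rw [hsU] at hmem
  obtain ⟨A, hA, hxA⟩ := TopologicalSpace.Opens.mem_sSup.mp hmem
  obtain ⟨m, hm⟩ := exists_fac_of_closedPoint_mem l (Scheme.Opens.ι A)
    (by rw [Scheme.Opens.range_ι]; exact hxA)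
  refine ⟨W, i1, i2, φ, hφ, ⟨A, hA⟩, m, ?_⟩
  rw [← cancel_mono (U : T.Opens).ι]
  show (m ≫ f.resLE (U : T.Opens) A (hle ⟨A, hA⟩)) ≫ _ = _
  rw [Category.assoc, Scheme.Hom.resLE_comp_ι, reassoc_of% hm, hl, Category.assoc]

theorem isVCover_singleton_iff {X : Scheme.{u}} (f : X ⟶ T) [QuasiCompact f] :
    HTop.IsVCover (PreZeroHypercover.singleton.{w} f) ↔
      HTop.HasValLift (PreZeroHypercover.singleton.{w} f) :=
  ⟨hasValLift_of_isVCover, isVCover_of_hasValLift f⟩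

end Groth.Agent.HTopV
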