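import Groth.Agent.Chow.Strata
import Groth.Agent.RedSepLib.Basic
import Groth.Agent.DvrDom.ClosedProper
import Groth.Agent.HTopV.Ph
import Groth.Agent.HTopV.Points

/-!
Proper surjective morphisms over an open subscheme dominated by proper surjective morphisms over the whole
scheme, and the resulting composition law for standard ph coverings.
-/

set_option autoImplicit false
set_option linter.style.haveILetI false
set_option backward.isDefEq.respectTransparency false
universe w w' u

open CategoryTheory CategoryTheory.Limits AlgebraicGeometry TopologicalSpace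

namespace Groth.Agent.HTopV

theorem exists_proper_union {U : Scheme.{u}} (κ : Type u) [Finite κ] :
    ∀ (Y : κ → Scheme.{u}) (g : ∀ i, Y i ⟶ U), (∀ i, IsProper (g i)) →
      ∃ (Z : Scheme.{u}) (q : Z ⟶ U), IsProper q ∧
        (∀ z : Z, ∃ (i : κ) (j : Y i ⟶ Z), IsOpenImmersion j ∧ j ≫ q = g i ∧ z ∈ Set.range j) ∧
        ∀ i, ∃ j : Y i ⟶ Z, j ≫ q = g i := by
  induction κ using Finite.induction_empty_option with
  | of_equiv e ih =>
    intro Y g hg
    obtain ⟨Z, q, hq, hz, hi⟩ := ih (fun a => Y (e a)) (fun a => g (e a)) (fun a => hg _)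
    refine ⟨Z, q, hq, fun z => ?_, fun i => ?_⟩
    · obtain ⟨a, j, hj⟩ := hz z
      exact ⟨e a, j, hj⟩
    · obtain ⟨a, rfl⟩ := e.surjective i
      exact hi a
  | h_empty =>
    intro Y g hg
    refine ⟨∅, Scheme.emptyTo U, inferInstance, fun z => isEmptyElim z, fun i => i.elim⟩
  | h_option ih =>
    intro Y g hg
    obtain ⟨Z, q, hq, hz, hi⟩ := ih (fun a => Y (some a)) (fun a => g (some a)) (fun a => hg _)
    haveI := hg none
    haveI : IsProper (coprod.map q (g none)) := IsZariskiLocalAtTarget.coprodMap _ _ hq (hg none)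
    have hd : IsProper (coprod.desc q (g none)) := by
      rw [show coprod.desc q (g none) = coprod.map q (g none) ≫ coprod.desc (𝟙 U) (𝟙 U) by
        rw [coprod.map_desc, Category.comp_id, Category.comp_id]]
      infer_instance
    refine ⟨Z ⨿ Y none, coprod.desc q (g none), hd, fun z => ?_, fun i => ?_⟩
    · rcases (isCompl_range_inl_inr Z (Y none)).sup_eq_top.ge (Set.mem_univ z) with ⟨a, ha⟩ | ⟨b, hb⟩
      · obtain ⟨i, j, hj, hjq, haj⟩ := hz a
        haveI := hj
        refine ⟨some i, j ≫ coprod.inl, inferInstance, by simp [hjq], ?_⟩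
        obtain ⟨y, rfl⟩ := haj
        exact ⟨y, ha⟩
      · exact ⟨none, coprod.inr, inferInstance, by simp, b, hb⟩
    · rcases i with _ | i
      · exact ⟨coprod.inr, by simp⟩
      · obtain ⟨j, hj⟩ := hi i
        exact ⟨j ≫ coprod.inl, by simp [hj]⟩

/-- A proper surjective morphism over an affine open part is dominated, locally over that part, by a proper
surjective morphism over the whole scheme. -/
theorem exists_proper_extend {U W V : Scheme.{u}} (ι : W ⟶ U) [IsOpenImmersion ι] [IsAffine W]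
    (f : V ⟶ W) [IsProper f] [Surjective f] :
    ∃ (Y : Scheme.{u}) (g : Y ⟶ U), IsProper g ∧ Surjective g ∧
      ∀ y : Y, g y ∈ Set.range ι → ∃ (O : Scheme.{u}) (o : O ⟶ Y) (h : O ⟶ V),
        IsOpenImmersion o ∧ y ∈ Set.range o ∧ h ≫ f ≫ ι = o ≫ g := by
  haveI : CompactSpace V := QuasiCompact.compactSpace_of_compactSpace f
  haveI : QuasiSeparatedSpace V := quasiSeparatedSpace_of_quasiSeparated f
  obtain ⟨κ, hκ, N, P, π, j, hj, hjf, hπ, hcov⟩ := Chow.exists_chow_cover f
  let β : ∀ k, CohB1.ProjSpaceOver (N k) W ⟶ CohB1.ProjSpaceOver (N k) U := fun k =>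
    pullback.lift (pullback.fst _ _) (CohB1.ProjSpaceOver.toBase (N k) W ≫ ι)
      (pullback.condition.trans (by
        show pullback.snd _ _ ≫ _ = (pullback.snd _ _ ≫ ι) ≫ _
        rw [Category.assoc]
        congr 1
        exact specULiftZIsTerminal.hom_ext _ _))
  have hβ : ∀ k, IsPullback (β k) (CohB1.ProjSpaceOver.toBase (N k) W)
      (CohB1.ProjSpaceOver.toBase (N k) U) ι := fun k => by
    refine IsPullback.of_right ?_ (pullback.lift_snd _ _ _) (IsPullback.of_hasPullback _ _)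
    have e : ι ≫ specULiftZIsTerminal.from U = specULiftZIsTerminal.from W :=
      specULiftZIsTerminal.hom_ext _ _
    rw [pullback.lift_fst, e]
    exact IsPullback.of_hasPullback _ _
  haveI hβo : ∀ k, IsOpenImmersion (β k) := fun k =>
    MorphismProperty.of_isPullback (P := @IsOpenImmersion) (hβ k).flip ‹_›
  haveI hjc : ∀ k, IsClosedImmersion (j k) := fun k => by
    haveI := hj k
    haveI := hπ k
    haveI := Chow.isProper_toBase (N k) W
    haveI : IsProper (j k ≫ CohB1.ProjSpaceOver.toBase (N k) W) := by rw [hjf]; infer_instance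
    haveI : IsProper (j k) := IsProper.of_comp (j k) (CohB1.ProjSpaceOver.toBase (N k) W)
    exact IsClosedImmersion.of_isPreimmersion _ (j k).isClosedMap.isClosed_range
  let Yk : Option κ → Scheme.{u} := fun i => i.rec
    (Scheme.IdealSheafData.vanishingIdeal
      (⟨(Set.range ι)ᶜ, ι.isOpenEmbedding.isOpen_range.isClosed_compl⟩ : Closeds U)).subscheme
    (fun k => (Scheme.IdealSheafData.vanishingIdeal
      (⟨closure (Set.range (j k ≫ β k)), isClosed_closure⟩ : Closeds _)).subscheme)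
  let gk : ∀ i, Yk i ⟶ U := fun i => i.rec
    (Scheme.IdealSheafData.subschemeι _)
    (fun k => Scheme.IdealSheafData.subschemeι _ ≫ CohB1.ProjSpaceOver.toBase (N k) U)
  have hgk : ∀ i, IsProper (gk i) := by
    rintro (_ | k)
    · exact inferInstanceAs (IsProper (Scheme.IdealSheafData.subschemeι _))
    · haveI := Chow.isProper_toBase (N k) U
      exact inferInstanceAs (IsProper (Scheme.IdealSheafData.subschemeι _ ≫ _))
  obtain ⟨Y, g, hg, hy, hi⟩ := exists_proper_union (Option κ) Yk gk hgk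
  refine ⟨Y, g, hg, ⟨fun t => ?_⟩, fun y hyι => ?_⟩
  · by_cases ht : t ∈ Set.range ι
    · obtain ⟨w, rfl⟩ := ht
      obtain ⟨v, rfl⟩ := f.surjective w
      obtain ⟨k, p, rfl⟩ := hcov v
      obtain ⟨z, hz⟩ : (j k ≫ β k) p ∈ Set.range (Scheme.IdealSheafData.vanishingIdeal
          (⟨closure (Set.range (j k ≫ β k)), isClosed_closure⟩ : Closeds _)).subschemeι := by
        rw [Scheme.IdealSheafData.range_subschemeι, Scheme.IdealSheafData.coe_support_vanishingIdeal]
        exact subset_closure ⟨p, rfl⟩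
      obtain ⟨e, he⟩ := hi (some k)
      refine ⟨e z, ?_⟩
      rw [← Scheme.Hom.comp_apply, he]
      show (Scheme.IdealSheafData.subschemeι _ ≫ CohB1.ProjSpaceOver.toBase (N k) U) z = _
      rw [Scheme.Hom.comp_apply, hz, ← Scheme.Hom.comp_apply, Category.assoc, (hβ k).w,
        ← Category.assoc, hjf, Scheme.Hom.comp_apply, Scheme.Hom.comp_apply]
    · obtain ⟨z, hz⟩ : t ∈ Set.range (Scheme.IdealSheafData.vanishingIdeal
          (⟨(Set.range ι)ᶜ, ι.isOpenEmbedding.isOpen_range.isClosed_compl⟩ : Closeds U)).subschemeι := by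
        rw [Scheme.IdealSheafData.range_subschemeι, Scheme.IdealSheafData.coe_support_vanishingIdeal]
        exact ht
      obtain ⟨e, he⟩ := hi none
      exact ⟨e z, by rw [← Scheme.Hom.comp_apply, he]; exact hz⟩
  · obtain ⟨i, e, he, heg, z, rfl⟩ := hy y
    rw [← Scheme.Hom.comp_apply, heg] at hyι
    rcases i with _ | k
    · exfalso
      have : gk none z ∈ Set.range (Scheme.IdealSheafData.vanishingIdeal
          (⟨(Set.range ι)ᶜ, ι.isOpenEmbedding.isOpen_range.isClosed_compl⟩ : Closeds U)).subschemeι :=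
        ⟨z, rfl⟩
      rw [Scheme.IdealSheafData.range_subschemeι, Scheme.IdealSheafData.coe_support_vanishingIdeal] at this
      exact this hyι
    · let I := Scheme.IdealSheafData.vanishingIdeal
        (⟨closure (Set.range (j k ≫ β k)), isClosed_closure⟩ : Closeds (CohB1.ProjSpaceOver (N k) U))
      let c : I.subscheme ⟶ CohB1.ProjSpaceOver (N k) U := I.subschemeι
      have hc : Set.range c = closure (Set.range (j k ≫ β k)) := by
        rw [Scheme.IdealSheafData.range_subschemeι, Scheme.IdealSheafData.coe_support_vanishingIdeal]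
        rfl
      change (c ≫ CohB1.ProjSpaceOver.toBase (N k) U) z ∈ Set.range ι at hyι
      change I.subscheme ⟶ Y at e
      change e ≫ g = c ≫ CohB1.ProjSpaceOver.toBase (N k) U at heg
      let O : I.subscheme.Opens := c ⁻¹ᵁ (β k).opensRange
      have hzO : z ∈ O := by
        obtain ⟨w, hw⟩ := hyι
        obtain ⟨q, hq, -⟩ := Scheme.exists_preimage_of_isPullback (hβ k) (c z) w
          (by rw [hw, Scheme.Hom.comp_apply])
        exact ⟨q, hq⟩
      haveI : IsReduced I.subscheme := DvrDom.isReduced_vanishingIdeal_subscheme _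
      let l : O.toScheme ⟶ CohB1.ProjSpaceOver (N k) W := IsOpenImmersion.lift (β k) (O.ι ≫ c) (by
        rintro _ ⟨x, rfl⟩
        rw [Scheme.Hom.comp_apply]
        exact x.2)
      have hl : Set.range l ⊆ Set.range (j k) := by
        rintro _ ⟨x, rfl⟩
        have h1 : β k (l x) ∈ closure (Set.range (j k ≫ β k)) := by
          rw [← hc, ← Scheme.Hom.comp_apply, IsOpenImmersion.lift_fac, Scheme.Hom.comp_apply]
          exact ⟨_, rfl⟩
        have h2 := ((β k).isOpenEmbedding.isOpenMap.preimage_closure_eq_closure_preimage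
          (β k).continuous (Set.range (j k ≫ β k))).subset h1
        rw [Scheme.Hom.comp_base, TopCat.coe_comp, Set.range_comp,
          Set.preimage_image_eq _ (β k).isOpenEmbedding.injective,
          (j k).isClosedEmbedding.isClosed_range.closure_eq] at h2
        exact h2
      obtain ⟨a, ha⟩ := RedSepLib.exists_lift_of_isReduced l (j k) hl
      haveI := he
      refine ⟨O.toScheme, O.ι ≫ e, a ≫ π k, inferInstance, ⟨⟨z, hzO⟩, rfl⟩, ?_⟩
      rw [Category.assoc, Category.assoc, heg, ← reassoc_of% (hjf k), reassoc_of% ha, ← (hβ k).w,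
        IsOpenImmersion.lift_fac_assoc, Category.assoc]

theorem exists_proper_dominating {U : Scheme.{u}} (κ : Type w) [Finite κ] :
    ∀ (Y : κ → Scheme.{u}) (g : ∀ i, Y i ⟶ U), (∀ i, IsProper (g i)) → (∀ i, Surjective (g i)) →
      ∃ (Z : Scheme.{u}) (q : Z ⟶ U), IsProper q ∧ Surjective q ∧
        ∀ i, ∃ p : Z ⟶ Y i, p ≫ g i = q := by
  induction κ using Finite.induction_empty_option with
  | of_equiv e ih =>
    intro Y g hg hs
    obtain ⟨Z, q, hq, hq', hi⟩ := ih (fun a => Y (e a)) (fun a => g (e a)) (fun a => hg _) (fun a => hs _)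
    refine ⟨Z, q, hq, hq', fun i => ?_⟩
    obtain ⟨a, rfl⟩ := e.surjective i
    exact hi a
  | h_empty =>
    intro Y g hg hs
    exact ⟨U, 𝟙 U, inferInstance, inferInstance, fun i => i.elim⟩
  | h_option ih =>
    intro Y g hg hs
    obtain ⟨Z, q, hq, hq', hi⟩ := ih (fun a => Y (some a)) (fun a => g (some a)) (fun a => hg _) (fun a => hs _)
    haveI := hg none
    haveI := hs none
    refine ⟨pullback q (g none), pullback.fst _ _ ≫ q, inferInstance, inferInstance, fun i => ?_⟩
    rcases i with _ | i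
    · exact ⟨pullback.snd _ _, pullback.condition.symm⟩
    · obtain ⟨p, hp⟩ := hi i
      exact ⟨pullback.fst _ _ ≫ p, by rw [Category.assoc, hp]⟩

/-- The morphism `g` factors, locally on its source, through members of `E`. -/
def LocRef {Y T : Scheme.{u}} (g : Y ⟶ T) (E : PreZeroHypercover.{w} T) : Prop :=
  ∀ y : Y, ∃ (O : Scheme.{u}) (o : O ⟶ Y), IsOpenImmersion o ∧ y ∈ Set.range o ∧
    ∃ (i : E.I₀) (h : O ⟶ E.X i), h ≫ E.f i = o ≫ g

theorem exists_isStandardPh_of_locRef {Y T : Scheme.{u}} [IsAffine T] (g : Y ⟶ T) [IsProper g]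
    [Surjective g] {E : PreZeroHypercover.{w} T} (h : LocRef g E) :
    ∃ F : PreZeroHypercover.{0} T, HTop.IsStandardPh F ∧ HTop.RefinesOver (𝟙 T) F E := by
  haveI : CompactSpace Y := QuasiCompact.compactSpace_of_compactSpace g
  choose O o ho hyo k a ha using h
  haveI := ho
  choose W hW hyW hWo using fun y : Y =>
    exists_isAffineOpen_mem_and_subset (x := y) (U := (o y).opensRange) (hyo y)
  obtain ⟨s, hs⟩ := isCompact_univ.elim_finite_subcover (fun y => (W y : Set Y))
    (fun y => (W y).2) (fun y _ => Set.mem_iUnion.mpr ⟨y, hyW y⟩)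
  obtain ⟨n, ⟨e⟩⟩ := Finite.exists_equiv_fin {y // y ∈ s}
  refine ⟨⟨Fin n, fun m => W (e.symm m).1, fun m => (W (e.symm m).1).ι ≫ g⟩,
    ⟨inferInstance, inferInstanceAs (Finite (Fin n)), fun m => hW _,
      Y, g, fun m => (W (e.symm m).1).ι, ‹_›, ‹_›,
      fun m => inferInstance, fun m => rfl, fun y => ?_⟩, fun m => ?_⟩
  · obtain ⟨z, hz, hyz⟩ := Set.mem_iUnion₂.mp (hs (Set.mem_univ y))
    refine ⟨e ⟨z, hz⟩, ?_⟩
    rw [Scheme.Opens.range_ι, e.symm_apply_apply]
    exact hyz
  · refine ⟨k (e.symm m).1, IsOpenImmersion.lift (o (e.symm m).1) (W (e.symm m).1).ι ?_ ≫ a (e.symm m).1, ?_⟩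
    · rw [Scheme.Opens.range_ι]
      exact hWo _
    · rw [Category.assoc, ha, IsOpenImmersion.lift_fac_assoc]
      exact (Category.comp_id _).symm

/-- Composites of standard ph coverings are refined by standard ph coverings. -/
theorem exists_isStandardPh_bind {T : Scheme.{u}} {E : PreZeroHypercover.{w} T}
    (hE : HTop.IsStandardPh E) (F : ∀ j, PreZeroHypercover.{w'} (E.X j))
    (hF : ∀ j, HTop.IsStandardPh (F j)) :
    ∃ G : PreZeroHypercover.{0} T, HTop.IsStandardPh G ∧ HTop.RefinesOver (𝟙 T) G (E.bind F) := by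
  haveI := hE.isAffine
  haveI := hE.finite_index
  haveI := hE.isAffine_obj
  obtain ⟨U, f, ι, hp, hsf, ho, hf, hc⟩ := hE.exists_proper
  haveI := hp; haveI := hsf; haveI := ho
  choose V fV ιV hpV hsV hoV hfV hcV using fun j => (hF j).exists_proper
  haveI := hpV; haveI := hsV
  choose Y g hg hgs hloc using fun j => exists_proper_extend (ι j) (fV j)
  obtain ⟨Z, q, hq, hqs, hp'⟩ := exists_proper_dominating E.I₀ Y g hg hgs
  refine exists_isStandardPh_of_locRef (q ≫ f) (fun z => ?_)
  obtain ⟨j, hj⟩ := hc (q z)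
  obtain ⟨p, hpq⟩ := hp' j
  obtain ⟨O, o, h, hoo, hzo, hh⟩ := hloc j (p z) (by rwa [← Scheme.Hom.comp_apply, hpq])
  haveI := hoo
  obtain ⟨x, hx⟩ := hzo
  obtain ⟨z₁, hz₁, -⟩ := Scheme.Pullback.exists_preimage_pullback (f := p) (g := o) z x hx.symm
  obtain ⟨l, v, hv⟩ := hcV j ((pullback.snd p o ≫ h) z₁)
  haveI := hoV j l
  obtain ⟨z₂, hz₂, -⟩ := Scheme.Pullback.exists_preimage_pullback
    (f := pullback.snd p o ≫ h) (g := ιV j l) z₁ v hv.symm
  refine ⟨_, pullback.fst (pullback.snd p o ≫ h) (ιV j l) ≫ pullback.fst p o, inferInstance,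
    ⟨z₂, by rw [Scheme.Hom.comp_apply, hz₂, hz₁]⟩, ⟨j, l⟩, pullback.snd _ _, ?_⟩
  show pullback.snd _ _ ≫ (F j).f l ≫ E.f j = _
  rw [← hfV j l, ← hf j, Category.assoc, ← pullback.condition_assoc, Category.assoc, Category.assoc,
    reassoc_of% hh, ← pullback.condition_assoc, reassoc_of% hpq]

theorem exists_isStandardPh_refining_openCover {T : Scheme.{u}} [IsAffine T] (E : PreZeroHypercover.{w} T)
    [∀ i, IsOpenImmersion (E.f i)] (hE : ∀ x : T, ∃ i, x ∈ Set.range (E.f i)) :
    ∃ F : PreZeroHypercover.{0} T, HTop.IsStandardPh F ∧ HTop.RefinesOver (𝟙 T) F E :=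
  exists_isStandardPh_of_locRef (𝟙 T) fun x => by
    obtain ⟨i, hi⟩ := hE x
    exact ⟨E.X i, E.f i, inferInstance, hi, i, 𝟙 _, by simp⟩

/-- Over an affine scheme a family which admits local ph refinements admits a standard one. -/
theorem exists_isStandardPh_of_local {U T : Scheme.{u}} [IsAffine U] (g : U ⟶ T)
    (E : PreZeroHypercover.{w} T)
    (h : ∀ x : U, ∃ (W : U.Opens) (_ : IsAffineOpen W) (_ : x ∈ W)
      (F : PreZeroHypercover.{0} (W : Scheme.{u})),
      HTop.IsStandardPh F ∧ HTop.RefinesOver (W.ι ≫ g) F E) :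
    ∃ G : PreZeroHypercover.{0} U, HTop.IsStandardPh G ∧ HTop.RefinesOver g G E := by
  choose W hW hxW F hF hFE using h
  obtain ⟨s, hs⟩ := isCompact_univ.elim_finite_subcover (fun x => (W x : Set U))
    (fun x => (W x).2) (fun x _ => Set.mem_iUnion.mpr ⟨x, hxW x⟩)
  let C : PreZeroHypercover.{u} U := ⟨{x // x ∈ s}, fun x => W x.1, fun x => (W x.1).ι⟩
  have hC : HTop.IsStandardPh C :=
    { isAffine := inferInstance
      finite_index := inferInstanceAs (Finite {x // x ∈ s})
      isAffine_obj := fun x => hW x.1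
      exists_proper := by
        refine ⟨U, 𝟙 U, fun x => (W x.1).ι, inferInstance, inferInstance, fun x => inferInstance,
          fun x => Category.comp_id _, fun x => ?_⟩
        obtain ⟨y, hy, hxy⟩ := Set.mem_iUnion₂.mp (hs (Set.mem_univ x))
        exact ⟨⟨y, hy⟩, by rw [Scheme.Opens.range_ι]; exact hxy⟩ }
  obtain ⟨G, hG, hGC⟩ := exists_isStandardPh_bind hC (fun x => F x.1) (fun x => hF x.1)
  refine ⟨G, hG, fun m => ?_⟩
  obtain ⟨⟨x, i⟩, b, hb⟩ := hGC m
  obtain ⟨k, a, ha⟩ := hFE x.1 i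
  refine ⟨k, b ≫ a, ?_⟩
  change b ≫ (F x.1).f i ≫ (W x.1).ι = G.f m ≫ 𝟙 U at hb
  rw [Category.assoc, ha, reassoc_of% hb]

theorem exists_isStandardPh_refining {U T : Scheme.{u}} [IsAffine U] (g : U ⟶ T)
    {E : PreZeroHypercover.{w} T} (hE : HTop.IsPhCover E) :
    ∃ G : PreZeroHypercover.{0} U, HTop.IsStandardPh G ∧ HTop.RefinesOver g G E := by
  refine exists_isStandardPh_of_local g E fun x => ?_
  obtain ⟨_, ⟨A, hA, rfl⟩, hxA, -⟩ :=
    T.isBasis_affineOpens.exists_subset_of_mem_open (Set.mem_univ (g x)) isOpen_univ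
  obtain ⟨_, ⟨W, hW, rfl⟩, hxW, hWA⟩ :=
    U.isBasis_affineOpens.exists_subset_of_mem_open (show x ∈ g ⁻¹ᵁ A from hxA) (g ⁻¹ᵁ A).2
  obtain ⟨F, hF, hFE⟩ := hE.2 ⟨A, hA⟩
  change U.Opens at W
  change T.Opens at A
  let g' : (W : Scheme.{u}) ⟶ (A : Scheme.{u}) := g.resLE A W hWA
  haveI : IsAffine W := hW
  refine ⟨W, hW, hxW, F.pullback₁ g', isStandardPh_pullback₁ g' hF, fun j => ?_⟩
  obtain ⟨k, a, ha⟩ := hFE j
  refine ⟨k, pullback.snd g' (F.f j) ≫ a, ?_⟩
  show (pullback.snd g' (F.f j) ≫ a) ≫ E.f k = pullback.fst g' (F.f j) ≫ Scheme.Opens.ι W ≫ g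
  rw [Category.assoc, ha, ← pullback.condition_assoc]
  congr 1
  exact Scheme.Hom.resLE_comp_ι g hWA

theorem isPhCover_pullback₁ {T T' : Scheme.{u}} (g : T' ⟶ T) {E : PreZeroHypercover.{w} T}
    (hE : HTop.IsPhCover E) : HTop.IsPhCover (E.pullback₁ g) := by
  refine ⟨fun i => MorphismProperty.pullback_fst _ _ (hE.1 i), fun U => ?_⟩
  haveI : IsAffine (U : T'.Opens) := U.2
  obtain ⟨G, hG, hGE⟩ := exists_isStandardPh_refining ((U : T'.Opens).ι ≫ g) hE
  refine ⟨G, hG, fun j => ?_⟩
  obtain ⟨k, a, ha⟩ := hGE j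
  exact ⟨k, pullback.lift (G.f j ≫ (U : T'.Opens).ι) a (by rw [Category.assoc]; exact ha.symm),
    pullback.lift_fst _ _ _⟩

theorem isPhCover_bind {T : Scheme.{u}} {E : PreZeroHypercover.{w} T} (hE : HTop.IsPhCover E)
    (F : ∀ i, PreZeroHypercover.{w'} (E.X i)) (hF : ∀ i, HTop.IsPhCover (F i)) :
    HTop.IsPhCover (E.bind F) := by
  refine ⟨fun ⟨i, l⟩ => ?_, fun U => ?_⟩
  · haveI := hE.1 i
    haveI := (hF i).1 l
    show LocallyOfFiniteType ((F i).f l ≫ E.f i)
    infer_instance
  haveI : IsAffine (U : T.Opens) := U.2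
  obtain ⟨G, hG, hGE⟩ := hE.2 U
  choose k a ha using hGE
  have := fun j => haveI := hG.isAffine_obj j; exists_isStandardPh_refining (a j) (hF (k j))
  choose H hH hHF using this
  obtain ⟨G', hG', hG'G⟩ := exists_isStandardPh_bind hG H hH
  refine ⟨G', hG', fun m => ?_⟩
  obtain ⟨⟨j, i⟩, b, hb⟩ := hG'G m
  obtain ⟨l, c, hc⟩ := hHF j i
  refine ⟨⟨k j, l⟩, b ≫ c, ?_⟩
  change b ≫ (H j).f i ≫ G.f j = G'.f m ≫ 𝟙 _ at hb
  show (b ≫ c) ≫ (F (k j)).f l ≫ E.f (k j) = _
  rw [Category.assoc, reassoc_of% hc, ha, reassoc_of% hb]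

/-- A standard ph covering has the valuative lifting property. -/
theorem hasValLift_of_isStandardPh {T : Scheme.{u}} {E : PreZeroHypercover.{w} T}
    (hE : HTop.IsStandardPh E) : HTop.HasValLift E := by
  obtain ⟨U, f, ι, hp, hs, ho, hf, hc⟩ := hE.exists_proper
  haveI := hp; haveI := hs
  refine hasValLift_of_specializes fun V _ _ t => ?_
  obtain ⟨w', hw'⟩ := (pullback.fst t f).surjective ⟨⊥, Ideal.isPrime_bot⟩
  obtain ⟨w, hw, hwz⟩ := (pullback.fst t f).isClosedMap.specializingMap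
    (show pullback.fst t f w' ⤳ IsLocalRing.closedPoint V by
      rw [hw']; exact IsLocalRing.specializes_closedPoint _)
  obtain ⟨j, x, hx⟩ := hc (pullback.snd t f w)
  haveI := ho j
  let m : pullback t (E.f j) ⟶ pullback t f :=
    pullback.map t (E.f j) t f (𝟙 _) (ι j) (𝟙 T) (by simp) (by simp [hf j])
  have hm : IsPullback m (pullback.snd t (E.f j)) (pullback.snd t f) (ι j) := by
    refine IsPullback.of_bot ?_ (by simp [m]) (IsPullback.of_hasPullback t f).flip |>.flip
    simp only [m, pullback.lift_fst, Category.comp_id, hf j]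
    exact (IsPullback.of_hasPullback t (E.f j)).flip
  haveI : IsOpenImmersion m := MorphismProperty.of_isPullback (P := @IsOpenImmersion) hm.flip (ho j)
  obtain ⟨v, hv, -⟩ := Scheme.exists_preimage_of_isPullback hm w x hx.symm
  obtain ⟨v', rfl⟩ := hw.mem_open m.isOpenEmbedding.isOpen_range ⟨v, hv⟩
  subst hv
  refine ⟨j, v', v, m.isOpenEmbedding.isInducing.specializes_iff.mp hw, ?_, ?_⟩
  · rw [← hw', ← Scheme.Hom.comp_apply]
    simp [m]
  · rw [← hwz, ← Scheme.Hom.comp_apply]
    simp [m]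

end Groth.Agent.HTopV
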