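import Groth.Agent.HTopV.Submersive
import Groth.Agent.DvrDom.Scheme
import Mathlib.RingTheory.TensorProduct.DirectLimitFG
import Mathlib.RingTheory.PowerSeries.Inverse

/-!
Universally submersive morphisms over a locally Noetherian base have the valuative lifting property
(Picavet, Rydh).
-/

set_option autoImplicit false
set_option linter.style.haveILetI false
set_option backward.isDefEq.respectTransparency false
universe w u

open CategoryTheory CategoryTheory.Limits AlgebraicGeometry TopologicalSpace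
open scoped TensorProduct

namespace Groth.Agent.HTopV

/-- Specializations over discrete valuation rings lift. -/
def DVRLift {X S : Scheme.{u}} (f : X ⟶ S) : Prop :=
  ∀ (R : Type u) [CommRing R] [IsDomain R] [IsDiscreteValuationRing R]
    (g : Spec (CommRingCat.of R) ⟶ S), ∃ w' w : ↑(pullback g f), w' ⤳ w ∧
      pullback.fst g f w' = ⟨⊥, Ideal.isPrime_bot⟩ ∧ pullback.fst g f w = IsLocalRing.closedPoint R

theorem exists_isNilpotent_of_forall_le {C : Type u} [CommRing C] (a : C) (q : Ideal C) [q.IsPrime]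
    (h : ∀ p : Ideal C, p.IsPrime → p ≤ q → a ∈ p) : ∃ s ∉ q, ∃ n : ℕ, s * a ^ n = 0 := by
  have : IsNilpotent (algebraMap C (Localization.AtPrime q) a) := by
    rw [nilpotent_iff_mem_prime]
    intro p hp
    refine h (p.comap (algebraMap C (Localization.AtPrime q))) inferInstance fun x hx => ?_
    by_contra hxq
    exact hp.ne_top (p.eq_top_of_isUnit_mem hx
      (IsLocalization.map_units (Localization.AtPrime q) (⟨x, hxq⟩ : q.primeCompl)))
  obtain ⟨n, hn⟩ := this
  rw [← map_pow] at hn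
  obtain ⟨⟨s, hs⟩, hsn⟩ := (IsLocalization.map_eq_zero_iff q.primeCompl _ _).mp hn
  exact ⟨s, hs, n, hsn⟩

theorem dvrLift_of_univSubmersive {X S : Scheme.{u}} (f : X ⟶ S) (hf : SGA1.UnivSubmersive f) :
    DVRLift f := by
  intro R _ _ _ g
  let q : pullback g f ⟶ Spec (CommRingCat.of R) := pullback.fst g f
  have hq : Topology.IsQuotientMap q :=
    hf _ _ _ (IsPullback.of_hasPullback g f)
  by_contra hno
  push Not at hno
  have hopen : IsOpen (q ⁻¹' {IsLocalRing.closedPoint R}) := by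
    rw [isOpen_iff_forall_mem_open]
    intro y hy
    obtain ⟨C, c, hc, hyc, -⟩ := exists_spec_nhd y
    obtain ⟨φ, hφ⟩ := Spec.map_surjective (c ≫ q)
    obtain ⟨z, rfl⟩ := hyc
    obtain ⟨π, hπ⟩ := IsDiscreteValuationRing.exists_irreducible R
    have hmem : ∀ x : Spec C, φ.hom π ∈ x.asIdeal ↔ q (c x) = IsLocalRing.closedPoint R := by
      intro x
      rw [← Scheme.Hom.comp_apply, ← hφ]
      constructor
      · intro hx
        refine PrimeSpectrum.ext ?_
        have hne : (Spec.map φ x).asIdeal ≠ ⊥ := fun hb => hπ.ne_zero (by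
          have : π ∈ (Spec.map φ x).asIdeal := hx
          rwa [hb, Ideal.mem_bot] at this)
        exact IsLocalRing.eq_maximalIdeal ((Spec.map φ x).isPrime.isMaximal hne)
      · intro hx
        have : π ∈ (Spec.map φ x).asIdeal := by
          rw [hx]
          exact (IsLocalRing.mem_maximalIdeal π).mpr hπ.not_isUnit
        exact this
    haveI := z.isPrime
    obtain ⟨s, hs, n, hn⟩ := exists_isNilpotent_of_forall_le (φ.hom π) z.asIdeal fun p hp hpz => by
      let x : Spec C := ⟨p, hp⟩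
      have hxz : x ⤳ z := (PrimeSpectrum.le_iff_specializes x z).mp hpz
      refine (hmem x).mpr ?_
      have h' := hno (c x) (c z) (hxz.map c.continuous)
      rcases eq_bot_or_closed (q (c x)) with h1 | h1
      · exact absurd hy (h' h1)
      · exact h1
    refine ⟨c '' ((PrimeSpectrum.basicOpen s : Opens (PrimeSpectrum C)) : Set (PrimeSpectrum C)), ?_, hc.base_open.isOpenMap _
      (PrimeSpectrum.basicOpen s).2, z, hs, rfl⟩
    rintro _ ⟨x, hx, rfl⟩
    refine (hmem x).mp (x.isPrime.mem_of_pow_mem n ?_)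
    refine (x.isPrime.mem_or_mem ?_).resolve_left hx
    rw [hn]
    exact zero_mem _
  have h0 := hq.isOpen_preimage.mp hopen
  have := (IsLocalRing.specializes_closedPoint (⟨⊥, Ideal.isPrime_bot⟩ : PrimeSpectrum R)).mem_open h0 rfl
  exact IsDiscreteValuationRing.not_a_field R (congrArg PrimeSpectrum.asIdeal this).symm
where
  exists_spec_nhd {P : Scheme.{u}} (y : P) : ∃ (C : CommRingCat.{u}) (c : Spec C ⟶ P),
      IsOpenImmersion c ∧ y ∈ Set.range c ∧ True := by
    obtain ⟨x, hx⟩ := P.affineCover.covers y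
    exact ⟨_, P.affineCover.f (P.affineCover.idx y), inferInstance, ⟨x, hx⟩, trivial⟩
  eq_bot_or_closed {R : Type u} [CommRing R] [IsDomain R] [IsDiscreteValuationRing R]
      (p : PrimeSpectrum R) : p = ⟨⊥, Ideal.isPrime_bot⟩ ∨ p = IsLocalRing.closedPoint R := by
    by_cases h : p.asIdeal = ⊥
    · exact .inl (PrimeSpectrum.ext h)
    · exact .inr (PrimeSpectrum.ext (IsLocalRing.eq_maximalIdeal (p.isPrime.isMaximal h)))

theorem DVRLift.baseChange {X S S' : Scheme.{u}} {f : X ⟶ S} (hf : DVRLift f) (e : S' ⟶ S) :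
    DVRLift (pullback.fst e f) := by
  intro R _ _ _ g
  obtain ⟨w', w, hw, h', h⟩ := hf R (g ≫ e)
  let m : pullback (g ≫ e) f ⟶ pullback g (pullback.fst e f) :=
    pullback.lift (pullback.fst _ _) (pullback.lift (pullback.fst _ _ ≫ g) (pullback.snd _ _)
      (by rw [Category.assoc, pullback.condition])) (by rw [pullback.lift_fst])
  exact ⟨m w', m w, hw.map m.continuous, by rw [← Scheme.Hom.comp_apply, pullback.lift_fst, h'],
    by rw [← Scheme.Hom.comp_apply, pullback.lift_fst, h]⟩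

theorem DVRLift.exists_point {X S : Scheme.{u}} {f : X ⟶ S} (hf : DVRLift f) (s : S) :
    ∃ x, f x = s := by
  let K := S.residueField s
  let g : Spec (CommRingCat.of (PowerSeries K)) ⟶ S :=
    Spec.map (CommRingCat.ofHom (PowerSeries.C : K →+* PowerSeries K)) ≫ S.fromSpecResidueField s
  obtain ⟨w', w, -, -, -⟩ := hf (PowerSeries K) g
  refine ⟨pullback.snd g f w, ?_⟩
  rw [← Scheme.Hom.comp_apply, ← pullback.condition, Scheme.Hom.comp_apply]
  exact S.fromSpecResidueField_apply s _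

/-- Lifting of specializations over locally Noetherian test schemes. -/
theorem DVRLift.exists_specializes {X S : Scheme.{u}} {f : X ⟶ S} (hf : DVRLift f) {Z : Scheme.{u}}
    [IsLocallyNoetherian Z] (g : Z ⟶ S) {z' z : Z} (hz : z' ⤳ z) :
    ∃ w' w : ↑(pullback g f), w' ⤳ w ∧ pullback.fst g f w' = z' ∧ pullback.fst g f w = z := by
  by_cases hne : z = z'
  · subst hne
    obtain ⟨w, hw⟩ := (hf.baseChange g).exists_point z
    exact ⟨w, w, specializes_rfl, hw, hw⟩
  obtain ⟨A, t, hA, ht, hgen⟩ := DvrDom.exists_dvr_through (𝟙 Z) z' z hz hne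
  haveI := hA
  have ht' : t ⟨⊥, Ideal.isPrime_bot⟩ = z' := by
    have h1 := congrArg (fun m => m.base (IsLocalRing.closedPoint (Z.residueField z'))) hgen
    refine Eq.trans ?_ (h1.trans (Z.fromSpecResidueField_apply z' _))
    refine congrArg t.base (PrimeSpectrum.ext (Ideal.ext fun a => ?_))
    show a ∈ (⊥ : Ideal A) ↔ A.subtype a ∈ IsLocalRing.maximalIdeal (Z.residueField z')
    rw [IsLocalRing.mem_maximalIdeal, mem_nonunits_iff, isUnit_iff_ne_zero, not_not, Ideal.mem_bot]
    exact (map_eq_zero_iff _ Subtype.val_injective).symm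
  obtain ⟨w', w, hw, h', h⟩ := hf A (t ≫ g)
  let m : pullback (t ≫ g) f ⟶ pullback g f :=
    pullback.lift (pullback.fst _ _ ≫ t) (pullback.snd _ _) (by rw [Category.assoc, pullback.condition])
  refine ⟨m w', m w, hw.map m.continuous, ?_, ?_⟩
  · rw [← Scheme.Hom.comp_apply, pullback.lift_fst, Scheme.Hom.comp_apply, h', ht']
  · rw [← Scheme.Hom.comp_apply, pullback.lift_fst, Scheme.Hom.comp_apply, h, ht]

section algebra

variable {R V : Type u} [CommRing R] [CommRing V] [IsDomain V] [ValuationRing V] [Algebra R V]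
  (B : Type u) [CommRing B] [Algebra R B]

/-- The map `A ⊗ B → A' ⊗ B`. -/
noncomputable abbrev incl {A A' : Subalgebra R V} (h : A ≤ A') : A ⊗[R] B →ₐ[R] A' ⊗[R] B :=
  Algebra.TensorProduct.map (Subalgebra.inclusion h) (AlgHom.id R B)

noncomputable abbrev toTop (A : Subalgebra R V) : A ⊗[R] B →ₐ[R] V ⊗[R] B :=
  Algebra.TensorProduct.map A.val (AlgHom.id R B)

noncomputable abbrev centre (A : Subalgebra R V) : Ideal A :=
  (IsLocalRing.maximalIdeal V).comap A.val

noncomputable abbrev centreExt (A : Subalgebra R V) : Ideal (A ⊗[R] B) :=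
  (centre A).map (Algebra.TensorProduct.includeLeft : A →ₐ[R] A ⊗[R] B)

/-- The obstruction to lifting the specialization to `Spec (A ⊗ B)`. -/
def Obstructed (A : Subalgebra R V) : Prop :=
  ∃ μ ∈ centreExt B A, ∃ r : A, r ≠ 0 ∧ (r ⊗ₜ[R] (1 : B)) * (1 - μ) = 0

theorem incl_centreExt {A A' : Subalgebra R V} (h : A ≤ A') {μ : A ⊗[R] B} (hμ : μ ∈ centreExt B A) :
    incl B h μ ∈ centreExt B A' := by
  have : centreExt B A ≤ (centreExt B A').comap (incl B h) := by
    refine Ideal.map_le_iff_le_comap.mpr fun a ha => ?_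
    have h2 : incl B h (a ⊗ₜ[R] (1 : B)) = Subalgebra.inclusion h a ⊗ₜ[R] (1 : B) := by
      simp [incl]
    show incl B h (a ⊗ₜ[R] (1 : B)) ∈ centreExt B A'
    rw [h2]
    exact Ideal.mem_map_of_mem _ (show Subalgebra.inclusion h a ∈ centre A' from ha)
  exact this hμ

theorem toTop_incl {A A' : Subalgebra R V} (h : A ≤ A') (x : A ⊗[R] B) :
    toTop B A' (incl B h x) = toTop B A x := by
  induction x with
  | zero => simp
  | tmul a b => simp [incl, toTop]
  | add x y hx hy => simp only [map_add, hx, hy]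

theorem Obstructed.mono {A A' : Subalgebra R V} (h : A ≤ A') (hA : Obstructed B A) :
    Obstructed B A' := by
  obtain ⟨μ, hμ, r, hr, he⟩ := hA
  refine ⟨incl B h μ, incl_centreExt B h hμ, Subalgebra.inclusion h r,
    fun h0 => hr (Subalgebra.inclusion_injective h (h0.trans (map_zero _).symm)), ?_⟩
  have := congrArg (incl B h) he
  simpa [incl] using this

theorem exists_centreExt_lift {μ : V ⊗[R] B}
    (hμ : μ ∈ (IsLocalRing.maximalIdeal V).map
      (Algebra.TensorProduct.includeLeft : V →ₐ[R] V ⊗[R] B)) :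
    ∃ A : Subalgebra R V, A.FG ∧ ∃ ν ∈ centreExt B A, toTop B A ν = μ := by
  classical
  refine Submodule.span_induction (p := fun μ _ => ∃ A : Subalgebra R V, A.FG ∧
    ∃ ν ∈ centreExt B A, toTop B A ν = μ) ?_ ?_ ?_ ?_ hμ
  · rintro _ ⟨a, ha, rfl⟩
    refine ⟨Algebra.adjoin R (({a} : Finset V) : Set V), Subalgebra.fg_adjoin_finset _,
      (⟨a, Algebra.subset_adjoin (by simp)⟩ : Algebra.adjoin R (({a} : Finset V) : Set V)) ⊗ₜ[R] (1 : B),
      Ideal.mem_map_of_mem _ ha, ?_⟩
    simp [toTop]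
  · exact ⟨⊥, Subalgebra.fg_bot, 0, zero_mem _, map_zero _⟩
  · rintro x y _ _ ⟨A, hA, ν, hν, rfl⟩ ⟨A', hA', ν', hν', rfl⟩
    refine ⟨A ⊔ A', hA.sup hA', incl B (le_sup_left : A ≤ A ⊔ A') ν + incl B (le_sup_right : A' ≤ A ⊔ A') ν',
      add_mem (incl_centreExt B _ hν) (incl_centreExt B _ hν'), ?_⟩
    rw [map_add, toTop_incl, toTop_incl]
  · rintro c x _ ⟨A, hA, ν, hν, rfl⟩
    obtain ⟨A', hA', c', hc'⟩ := TensorProduct.Algebra.exists_of_fg (R := R) c
    have hc'' : toTop B A' c' = c := by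
      rw [← hc']
      rfl
    refine ⟨A ⊔ A', hA.sup hA', incl B (le_sup_right : A' ≤ A ⊔ A') c' * incl B (le_sup_left : A ≤ A ⊔ A') ν,
      Ideal.mul_mem_left _ _ (incl_centreExt B _ hν), ?_⟩
    rw [map_mul, toTop_incl, toTop_incl, hc'']
    rfl

/-- Either the specialization lifts to `Spec (V ⊗ B)` or it is obstructed at a finite stage. -/
theorem exists_primes_or_obstructed :
    (∃ q' q : PrimeSpectrum (V ⊗[R] B), q' ≤ q ∧
      q'.asIdeal.comap (Algebra.TensorProduct.includeLeft : V →ₐ[R] V ⊗[R] B) = ⊥ ∧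
      q.asIdeal.comap (Algebra.TensorProduct.includeLeft : V →ₐ[R] V ⊗[R] B) =
        IsLocalRing.maximalIdeal V) ∨
    ∃ A : Subalgebra R V, A.FG ∧ Obstructed B A := by
  classical
  let ι : V →ₐ[R] V ⊗[R] B := Algebra.TensorProduct.includeLeft
  let J : Ideal (V ⊗[R] B) :=
    { carrier := {c | ∃ r : V, r ≠ 0 ∧ ι r * c = 0}
      add_mem' := by
        rintro a b ⟨r, hr, ha⟩ ⟨s, hs, hb⟩
        refine ⟨r * s, mul_ne_zero hr hs, ?_⟩
        rw [map_mul, mul_add, mul_right_comm, ha, zero_mul, mul_assoc, hb, mul_zero, add_zero]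
      zero_mem' := ⟨1, one_ne_zero, mul_zero _⟩
      smul_mem' := by
        rintro c x ⟨r, hr, hx⟩
        exact ⟨r, hr, by rw [smul_eq_mul, mul_left_comm, hx, mul_zero]⟩ }
  by_cases h : J ⊔ (IsLocalRing.maximalIdeal V).map ι = ⊤
  · right
    rw [Ideal.eq_top_iff_one, Submodule.mem_sup] at h
    obtain ⟨j, ⟨r, hr, hrj⟩, μ, hμ, hjμ⟩ := h
    obtain ⟨A, hA, ν, hν, rfl⟩ := exists_centreExt_lift B hμ
    let A₁ := A ⊔ Algebra.adjoin R (({r} : Finset V) : Set V)
    have hA₁ : A₁.FG := hA.sup (Subalgebra.fg_adjoin_finset _)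
    let r₁ : A₁ := ⟨r, (le_sup_right : Algebra.adjoin R (({r} : Finset V) : Set V) ≤ A₁)
      (Algebra.subset_adjoin (by simp))⟩
    let ν₁ := incl B (le_sup_left : A ≤ A₁) ν
    have he : toTop B A₁ ((r₁ ⊗ₜ[R] (1 : B)) * (1 - ν₁)) = 0 := by
      rw [map_mul, map_sub, map_one, toTop_incl, ← hjμ, add_sub_cancel_right]
      simpa [toTop, ι, r₁] using hrj
    obtain ⟨A₂, h₂, hA₂, he₂⟩ := TensorProduct.Algebra.eq_of_fg_of_subtype_eq (R := R) hA₁
      (t := (r₁ ⊗ₜ[R] (1 : B)) * (1 - ν₁)) (t' := 0) (by rw [map_zero]; exact he)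
    refine ⟨A₂, hA₂, incl B h₂ ν₁, incl_centreExt B _ (incl_centreExt B _ hν),
      Subalgebra.inclusion h₂ r₁,
      fun h0 => hr (congrArg Subtype.val h0), ?_⟩
    rw [map_zero] at he₂
    have : incl B h₂ ((r₁ ⊗ₜ[R] (1 : B)) * (1 - ν₁)) = 0 := he₂
    simpa [incl] using this
  · left
    obtain ⟨q, hq, hle⟩ := Ideal.exists_le_maximal _ h
    haveI := hq.isPrime
    let M : Submonoid (V ⊗[R] B) :=
      { carrier := {x | ∃ r : V, r ≠ 0 ∧ ∃ c ∉ q, x = ι r * c}
        one_mem' := ⟨1, one_ne_zero, 1, (Ideal.ne_top_iff_one q).mp hq.ne_top, by simp⟩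
        mul_mem' := by
          rintro _ _ ⟨r, hr, c, hc, rfl⟩ ⟨s, hs, d, hd, rfl⟩
          exact ⟨r * s, mul_ne_zero hr hs, c * d, hq.isPrime.mul_notMem hc hd,
            by rw [map_mul]; ring⟩ }
    obtain ⟨q', hq', -, hdisj⟩ := Ideal.exists_le_prime_disjoint (⊥ : Ideal (V ⊗[R] B)) M (by
      rw [Set.disjoint_left]
      rintro x hx ⟨r, hr, c, hc, rfl⟩
      exact hc (hle (Ideal.mem_sup_left ⟨r, hr, hx⟩)))
    refine ⟨⟨q', hq'⟩, ⟨q, hq.isPrime⟩, fun x hx => ?_, ?_, ?_⟩
    · by_contra hxq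
      exact Set.disjoint_left.mp hdisj hx ⟨1, one_ne_zero, x, hxq, by simp⟩
    · refine le_bot_iff.mp fun r hr => ?_
      by_contra hr0
      exact Set.disjoint_left.mp hdisj hr ⟨r, hr0, 1, (Ideal.ne_top_iff_one q).mp hq.ne_top, by simp [ι]⟩
    · exact ((IsLocalRing.maximalIdeal.isMaximal V).eq_of_le (Ideal.IsPrime.comap ι).ne_top
        (fun a ha => hle (Ideal.mem_sup_right (Ideal.mem_map_of_mem _ ha)))).symm

theorem Obstructed.false_of_primes {A : Subalgebra R V} (hA : Obstructed B A)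
    (q' q : PrimeSpectrum (A ⊗[R] B)) (hle : q' ≤ q)
    (h' : q'.asIdeal.comap (Algebra.TensorProduct.includeLeft : A →ₐ[R] A ⊗[R] B) = ⊥)
    (h : centre A ≤ q.asIdeal.comap (Algebra.TensorProduct.includeLeft : A →ₐ[R] A ⊗[R] B)) :
    False := by
  obtain ⟨μ, hμ, r, hr, he⟩ := hA
  have hrq : r ⊗ₜ[R] (1 : B) ∉ q'.asIdeal := fun hm => hr (by
    have : r ∈ q'.asIdeal.comap (Algebra.TensorProduct.includeLeft : A →ₐ[R] A ⊗[R] B) := hm
    rwa [h', Ideal.mem_bot] at this)
  have h1 : 1 - μ ∈ q.asIdeal :=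
    hle ((q'.isPrime.mem_or_mem (by rw [he]; exact zero_mem _)).resolve_left hrq)
  have h2 : μ ∈ q.asIdeal := Ideal.map_le_iff_le_comap.mpr h hμ
  have h3 := add_mem h1 h2
  rw [sub_add_cancel] at h3
  exact q.isPrime.ne_top ((Ideal.eq_top_iff_one _).mpr h3)

end algebra

/-- The specialization between the generic and the closed point lifts, affine base. -/
theorem exists_lift_affine {R : CommRingCat.{u}} [IsNoetherianRing R] {X : Scheme.{u}} [CompactSpace X]
    (f : X ⟶ Spec R) (hf : DVRLift f) (V : CommRingCat.{u}) [IsDomain V] [ValuationRing V]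
    (ρ : R ⟶ V) : ∃ w' w : ↑(pullback (Spec.map ρ) f), w' ⤳ w ∧
      pullback.fst (Spec.map ρ) f w' = ⟨⊥, Ideal.isPrime_bot⟩ ∧
      pullback.fst (Spec.map ρ) f w = IsLocalRing.closedPoint V := by
  classical
  letI : Algebra R V := ρ.hom.toAlgebra
  let 𝒰 := X.affineCover.finiteSubcover
  haveI : ∀ i, IsAffine (𝒰.X i) := fun i => inferInstanceAs (IsAffine (X.affineCover.X _))
  let ψ : ∀ i, Spec Γ(𝒰.X i, ⊤) ⟶ X := fun i => (𝒰.X i).isoSpec.inv ≫ 𝒰.f i
  choose β hβ using fun i => Spec.map_surjective (ψ i ≫ f)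
  letI : ∀ i, Algebra R Γ(𝒰.X i, ⊤) := fun i => (β i).hom.toAlgebra
  by_cases h : ∃ i, ∃ q' q : PrimeSpectrum (V ⊗[R] Γ(𝒰.X i, ⊤)), q' ≤ q ∧
      q'.asIdeal.comap (Algebra.TensorProduct.includeLeft : V →ₐ[R] V ⊗[R] Γ(𝒰.X i, ⊤)) = ⊥ ∧
      q.asIdeal.comap (Algebra.TensorProduct.includeLeft : V →ₐ[R] V ⊗[R] Γ(𝒰.X i, ⊤)) =
        IsLocalRing.maximalIdeal V
  · obtain ⟨i, q', q, hle, h', hq⟩ := h
    let e := pullbackSpecIso R V Γ(𝒰.X i, ⊤)
    let m : pullback (Spec.map (CommRingCat.ofHom (algebraMap R V)))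
        (Spec.map (CommRingCat.ofHom (algebraMap R Γ(𝒰.X i, ⊤)))) ⟶ pullback (Spec.map ρ) f :=
      pullback.lift (pullback.fst _ _) (pullback.snd _ _ ≫ ψ i) (by
        rw [Category.assoc, ← hβ i]; exact pullback.condition)
    let k := e.inv ≫ m
    have hk : k ≫ pullback.fst (Spec.map ρ) f =
        Spec.map (CommRingCat.ofHom (Algebra.TensorProduct.includeLeftRingHom)) := by
      simp only [k, m, Category.assoc, pullback.lift_fst]
      exact pullbackSpecIso_inv_fst R V Γ(𝒰.X i, ⊤)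
    refine ⟨k q', k q, ((PrimeSpectrum.le_iff_specializes q' q).mp hle).map k.continuous, ?_, ?_⟩
    · rw [← Scheme.Hom.comp_apply, hk]
      exact PrimeSpectrum.ext h'
    · rw [← Scheme.Hom.comp_apply, hk]
      exact PrimeSpectrum.ext hq
  · exfalso
    push Not at h
    have : ∀ i, ∃ A : Subalgebra R V, A.FG ∧ Obstructed Γ(𝒰.X i, ⊤) A := fun i =>
      (exists_primes_or_obstructed (R := R) (V := V) Γ(𝒰.X i, ⊤)).resolve_left
        (fun ⟨q', q, a, b, c⟩ => h i q' q a b c)
    choose A hA hobs using this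
    let A₀ := Finset.univ.sup A
    have hA₀ : A₀.FG := Finset.sup_induction Subalgebra.fg_bot
      (fun a ha b hb => ha.sup hb) (fun i _ => hA i)
    have hle : ∀ i, A i ≤ A₀ := fun i => Finset.le_sup (Finset.mem_univ i)
    haveI : Algebra.FiniteType R A₀ := ⟨(Subalgebra.fg_top _).mpr hA₀⟩
    haveI : IsNoetherianRing A₀ := Algebra.FiniteType.isNoetherianRing R A₀
    let t : Spec (CommRingCat.of A₀) ⟶ Spec R := Spec.map (CommRingCat.ofHom (algebraMap R A₀))
    let z' : Spec (CommRingCat.of A₀) := ⟨⊥, Ideal.isPrime_bot⟩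
    let z : Spec (CommRingCat.of A₀) := ⟨centre A₀, Ideal.IsPrime.comap _⟩
    obtain ⟨w', w, hw, h', hz⟩ := hf.exists_specializes t
      (show z' ⤳ z from (PrimeSpectrum.le_iff_specializes z' z).mp bot_le)
    obtain ⟨y, hy⟩ := 𝒰.covers (pullback.snd t f w)
    let i := 𝒰.idx (pullback.snd t f w)
    have hi : pullback.snd t f w ∈ Set.range (ψ i) := by
      refine ⟨(𝒰.X i).isoSpec.hom y, ?_⟩
      rw [← Scheme.Hom.comp_apply, Iso.hom_inv_id_assoc]
      exact hy
    obtain ⟨v, hv⟩ := hi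
    let m : pullback t (Spec.map (CommRingCat.ofHom (algebraMap R Γ(𝒰.X i, ⊤)))) ⟶ pullback t f :=
      pullback.map _ _ _ _ (𝟙 _) (ψ i) (𝟙 _) (by simp) (by rw [Category.comp_id]; exact hβ i)
    have hm : IsPullback m (pullback.snd _ _) (pullback.snd t f) (ψ i) := by
      refine IsPullback.of_bot ?_ (by simp [m]) (IsPullback.of_hasPullback t f).flip |>.flip
      simp only [m, pullback.lift_fst, Category.comp_id]
      rw [← hβ i]
      exact (IsPullback.of_hasPullback t _).flip
    haveI : IsOpenImmersion (ψ i) := inferInstance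
    haveI : IsOpenImmersion m := MorphismProperty.of_isPullback (P := @IsOpenImmersion) hm.flip ‹_›
    obtain ⟨v₀, hv₀, -⟩ := Scheme.exists_preimage_of_isPullback hm w v hv.symm
    obtain ⟨v₁, hv₁⟩ := hw.mem_open m.isOpenEmbedding.isOpen_range ⟨v₀, hv₀⟩
    replace hw : m v₁ ⤳ m v₀ := by rw [hv₁, hv₀]; exact hw
    replace h' : pullback.fst t f (m v₁) = z' := by rw [hv₁]; exact h'
    replace hz : pullback.fst t f (m v₀) = z := by rw [hv₀]; exact hz
    let e := pullbackSpecIso R A₀ Γ(𝒰.X i, ⊤)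
    have hfst : ∀ x, Spec.map (CommRingCat.ofHom (Algebra.TensorProduct.includeLeftRingHom))
        (e.hom x) = pullback.fst t f (m x) := fun x => by
      rw [← Scheme.Hom.comp_apply, pullbackSpecIso_hom_fst, ← Scheme.Hom.comp_apply]
      congr 1
      simp [m, t]
    refine ((hobs i).mono _ (hle i)).false_of_primes _ (e.hom v₁) (e.hom v₀) ?_ ?_ ?_
    · exact (PrimeSpectrum.le_iff_specializes _ _).mpr
        ((m.isOpenEmbedding.isInducing.specializes_iff.mp hw).map e.hom.continuous)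
    · exact (congrArg PrimeSpectrum.asIdeal (hfst v₁)).trans (congrArg PrimeSpectrum.asIdeal h')
    · exact ((congrArg PrimeSpectrum.asIdeal (hfst v₀)).trans (congrArg PrimeSpectrum.asIdeal hz)).ge

/-- Over a locally Noetherian base, lifting over discrete valuation rings gives lifting over all
valuation rings. -/
theorem hasValLift_of_dvrLift {X S : Scheme.{u}} [IsLocallyNoetherian S] (f : X ⟶ S) [QuasiCompact f]
    (hf : DVRLift f) : HTop.HasValLift (PreZeroHypercover.singleton.{w} f) := by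
  refine hasValLift_of_specializes fun V _ _ t => ⟨PUnit.unit, ?_⟩
  show ∃ w' w : ↑(pullback t f), _
  obtain ⟨U, hU, hxU, -⟩ := exists_isAffineOpen_mem_and_subset
    (x := t (IsLocalRing.closedPoint V)) (U := (⊤ : S.Opens)) trivial
  obtain ⟨l, hl⟩ := exists_fac_of_closedPoint_mem t hU.fromSpec (by rw [hU.range_fromSpec]; exact hxU)
  obtain ⟨ρ, rfl⟩ := Spec.map_surjective l
  haveI : IsNoetherianRing Γ(S, U) := IsLocallyNoetherian.component_noetherian ⟨U, hU⟩
  haveI : CompactSpace ↥(pullback hU.fromSpec f) :=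
    QuasiCompact.compactSpace_of_compactSpace (pullback.fst hU.fromSpec f)
  obtain ⟨w', w, hw, h', h⟩ := exists_lift_affine (pullback.fst hU.fromSpec f) (hf.baseChange _) V ρ
  let m : pullback (Spec.map ρ) (pullback.fst hU.fromSpec f) ⟶ pullback t f :=
    pullback.lift (pullback.fst _ _) (pullback.snd _ _ ≫ pullback.snd _ _) (by
      rw [Category.assoc, ← pullback.condition, ← pullback.condition_assoc, hl])
  have hm : ∀ x, pullback.fst t f (m x) = pullback.fst (Spec.map ρ) (pullback.fst hU.fromSpec f) x :=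
    fun x => by rw [← Scheme.Hom.comp_apply, pullback.lift_fst]
  exact ⟨m w', m w, hw.map m.continuous, (hm w').trans h', (hm w).trans h⟩

theorem isVCover_singleton_of_dvrLift {X S : Scheme.{u}} [IsLocallyNoetherian S] (f : X ⟶ S)
    [QuasiCompact f] (hf : DVRLift f) : HTop.IsVCover (PreZeroHypercover.singleton.{w} f) :=
  isVCover_of_hasValLift f (hasValLift_of_dvrLift f hf)

theorem univSubmersive_of_dvrLift {X S : Scheme.{u}} [IsLocallyNoetherian S] (f : X ⟶ S)
    [QuasiCompact f] (hf : DVRLift f) : SGA1.UnivSubmersive f := by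
  have h := univSubmersive_sigmaDesc (isVCover_singleton_of_dvrLift.{u} f hf)
  haveI : SGA1.UnivSubmersive.{u}.RespectsIso :=
    inferInstanceAs (MorphismProperty.universally _).RespectsIso
  let i := (coproductUniqueIso (fun _ : PUnit.{u + 1} => X)).inv
  have e : i ≫ Sigma.desc (PreZeroHypercover.singleton.{u} f).f = f := by
    simp only [i, coproductUniqueIso_inv]
    exact Sigma.ι_desc _ _
  rw [← e]
  exact (MorphismProperty.cancel_left_of_respectsIso SGA1.UnivSubmersive i _).mpr h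

end Groth.Agent.HTopV
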