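import Groth.Agent.HTopV.Points
import Groth.Prelude.Def_SGA1
import Mathlib.AlgebraicGeometry.Limits
import Mathlib.AlgebraicGeometry.Morphisms.Proper

/-!
V coverings are universally submersive; fpqc criteria.
-/

set_option autoImplicit false
set_option linter.style.haveILetI false
set_option backward.isDefEq.respectTransparency false
universe w w' u

open CategoryTheory CategoryTheory.Limits AlgebraicGeometry

namespace Groth.Agent.HTopV

variable {T : Scheme.{u}}

theorem exists_point_of_hasValLift {E : PreZeroHypercover.{w} T} (hE : HTop.HasValLift E) (t : T) :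
    ∃ (j : E.I₀) (x : E.X j), E.f j x = t := by
  obtain ⟨V, i1, i2, l, -, hl⟩ := exists_spec_valuationRing (specializes_rfl (x := t))
  haveI := i1
  haveI := i2
  obtain ⟨W, j1, j2, φ, hφ, j, g', hg'⟩ := hE V l
  haveI := j1
  haveI := j2
  refine ⟨j, g' (IsLocalRing.closedPoint W), ?_⟩
  rw [← Scheme.Hom.comp_apply, hg', Scheme.Hom.comp_apply, ← hl]
  congr 1
  haveI := hφ.2
  exact IsLocalRing.comap_closedPoint φ.hom

theorem mem_of_specializes {E : PreZeroHypercover.{w} T} (hE : HTop.HasValLift E) (s : Set T)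
    (hs : ∀ j, IsClosed (E.f j ⁻¹' s)) : StableUnderSpecialization s := by
  intro x' x hx hx'
  obtain ⟨V, i1, i2, l, hl', hl⟩ := exists_spec_valuationRing hx
  haveI := i1
  haveI := i2
  obtain ⟨W, j1, j2, φ, hφ, j, g', hg'⟩ := hE V l
  haveI := j1
  haveI := j2
  have h' : E.f j (g' ⟨⊥, Ideal.isPrime_bot⟩) = x' := by
    rw [← Scheme.Hom.comp_apply, hg', Scheme.Hom.comp_apply, ← hl']
    congr 1
    refine PrimeSpectrum.ext (Ideal.ext fun a => ?_)
    show φ.hom a ∈ (⊥ : Ideal W) ↔ a ∈ (⊥ : Ideal V)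
    rw [Ideal.mem_bot, Ideal.mem_bot, map_eq_zero_iff _ hφ.1]
  have hc : E.f j (g' (IsLocalRing.closedPoint W)) = x := by
    rw [← Scheme.Hom.comp_apply, hg', Scheme.Hom.comp_apply, ← hl]
    congr 1
    haveI := hφ.2
    exact IsLocalRing.comap_closedPoint φ.hom
  have hmem : g' ⟨⊥, Ideal.isPrime_bot⟩ ∈ E.f j ⁻¹' s := by
    show E.f j (g' ⟨⊥, Ideal.isPrime_bot⟩) ∈ s
    rwa [h']
  have := ((IsLocalRing.specializes_closedPoint (R := W) ⟨⊥, Ideal.isPrime_bot⟩).map
    g'.continuous).mem_closed (hs j) hmem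
  rw [← hc]
  exact this

theorem isClosed_image_of_affine {X Y : Scheme.{u}} [IsAffine X] [IsAffine Y] (f : X ⟶ Y) {Z : Set X}
    (hZ : IsClosed Z) (h : StableUnderSpecialization (f '' Z)) : IsClosed (f '' Z) := by
  obtain ⟨φ, hφ⟩ := Spec.map_surjective (X.isoSpec.inv ≫ f ≫ Y.isoSpec.hom)
  let hX := X.isoSpec.inv.homeomorph
  let hY := Y.isoSpec.hom.homeomorph
  have key : PrimeSpectrum.comap φ.hom '' (hX ⁻¹' Z) = hY '' (f '' Z) := by
    ext p
    constructor
    · rintro ⟨q, hq, rfl⟩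
      refine ⟨f (X.isoSpec.inv q), ⟨_, hq, rfl⟩, ?_⟩
      show Y.isoSpec.hom (f (X.isoSpec.inv q)) = Spec.map φ q
      rw [hφ, Scheme.Hom.comp_apply, Scheme.Hom.comp_apply]
    · rintro ⟨_, ⟨x, hx, rfl⟩, rfl⟩
      refine ⟨X.isoSpec.hom x, ?_, ?_⟩
      · show X.isoSpec.inv (X.isoSpec.hom x) ∈ Z
        rw [← Scheme.Hom.comp_apply, Iso.hom_inv_id]
        exact hx
      · show Spec.map φ (X.isoSpec.hom x) = Y.isoSpec.hom (f x)
        rw [hφ, ← Scheme.Hom.comp_apply, Iso.hom_inv_id_assoc, Scheme.Hom.comp_apply]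
  have hc : IsClosed (hY '' (f '' Z)) := by
    rw [← key]
    refine PrimeSpectrum.isClosed_image_of_stableUnderSpecialization φ.hom _ (hZ.preimage hX.continuous) ?_
    rw [key]
    exact h.image hY.isClosedMap.specializingMap
  rwa [hY.isClosed_image] at hc

theorem isClosed_of_isStandardV {E : PreZeroHypercover.{u} T} (hE : HTop.IsStandardV E) (s : Set T)
    (hs : ∀ j, IsClosed (E.f j ⁻¹' s)) : IsClosed s := by
  haveI := hE.isAffine
  haveI := hE.finite_index
  haveI := hE.isAffine_obj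
  have hD : IsClosed (Sigma.desc E.f ⁻¹' s) := by
    rw [(sigmaOpenCover E.X).isOpenCover_opensRange.isClosed_iff_coe_preimage]
    intro i
    have h1 : IsClosed (((sigmaOpenCover E.X).f i) ⁻¹' (Sigma.desc E.f ⁻¹' s)) := by
      rw [← Set.preimage_comp, ← TopCat.coe_comp, ← Scheme.Hom.comp_base,
        show (sigmaOpenCover E.X).f i = Sigma.ι E.X i from rfl, Sigma.ι_desc]
      exact hs i
    let e := ((sigmaOpenCover E.X).f i).isOpenEmbedding.isEmbedding.toHomeomorph
    exact (e.isClosed_preimage (s := Subtype.val ⁻¹' (Sigma.desc E.f ⁻¹' s))).mp h1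
  have himg : Sigma.desc E.f '' (Sigma.desc E.f ⁻¹' s) = s := by
    refine Set.image_preimage_eq_of_subset fun x _ => ?_
    obtain ⟨j, y, hy⟩ := exists_point_of_hasValLift hE.lift x
    exact ⟨Sigma.ι E.X j y, by rw [← Scheme.Hom.comp_apply, Sigma.ι_desc, hy]⟩
  rw [← himg]
  exact isClosed_image_of_affine _ hD (himg.symm ▸ mem_of_specializes hE.lift s hs)

theorem isClosed_of_isVCover {E : PreZeroHypercover.{w} T} (hE : HTop.IsVCover E) (s : Set T)
    (hs : ∀ i, IsClosed (E.f i ⁻¹' s)) : IsClosed s := by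
  rw [(TopologicalSpace.IsOpenCover.mk (iSup_affineOpens_eq_top T)).isClosed_iff_coe_preimage]
  intro U
  obtain ⟨F, hF, hFE⟩ := hE U
  have hF' := isStandardV_reindex hF (Equiv.ulift.{u} (α := F.I₀))
  refine isClosed_of_isStandardV hF' ((U : T.Opens).ι ⁻¹' s) fun j => ?_
  obtain ⟨i, a, ha⟩ := hFE j.down
  have : IsClosed (a ⁻¹' (E.f i ⁻¹' s)) := (hs i).preimage a.continuous
  rw [← Set.preimage_comp, ← TopCat.coe_comp, ← Scheme.Hom.comp_base, ha] at this
  exact this

theorem isQuotientMap_sigmaDesc {E : PreZeroHypercover.{u} T} (hE : HTop.IsVCover E) :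
    Topology.IsQuotientMap (Sigma.desc E.f) := by
  refine (Topology.isQuotientMap_iff_isClosed.mpr ⟨fun x => ?_, fun s => ⟨fun h =>
    h.preimage (Sigma.desc E.f).continuous, fun h => isClosed_of_isVCover hE s fun i => ?_⟩⟩)
  · obtain ⟨j, y, hy⟩ := exists_point_of_hasValLift (hasValLift_of_isVCover hE) x
    exact ⟨Sigma.ι E.X j y, by rw [← Scheme.Hom.comp_apply, Sigma.ι_desc, hy]⟩
  · have := h.preimage (Sigma.ι E.X i).continuous
    rwa [← Set.preimage_comp, ← TopCat.coe_comp, ← Scheme.Hom.comp_base, Sigma.ι_desc] at this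

theorem univSubmersive_sigmaDesc {X : Scheme.{u}} {E : PreZeroHypercover.{u} X}
    (hE : HTop.IsVCover E) : SGA1.UnivSubmersive (Sigma.desc E.f) := by
  intro P X' i₁ i₂ f' h
  let E' := E.pullback₁ i₂
  let q : (∐ E'.X) ⟶ P := Sigma.desc fun j =>
    h.lift (pullback.fst i₂ (E.f j)) (pullback.snd i₂ (E.f j) ≫ Sigma.ι E.X j)
      (by rw [Category.assoc, Sigma.ι_desc, pullback.condition])
  have hq : q ≫ f' = Sigma.desc E'.f := Sigma.hom_ext _ _ fun j => by
    rw [Sigma.ι_desc_assoc, h.lift_fst, Sigma.ι_desc]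
    rfl
  have := isQuotientMap_sigmaDesc (isVCover_pullback₁ i₂ hE)
  rw [← hq, Scheme.Hom.comp_base, TopCat.coe_comp] at this
  exact Topology.IsQuotientMap.of_comp q.continuous f'.continuous this

theorem isHCover_of_proper_surjective {X Y : Scheme.{u}} (f : Y ⟶ X) [IsProper f] [Surjective f]
    [LocallyOfFinitePresentation f] : HTop.IsHCover (PreZeroHypercover.singleton.{w} f) := by
  refine ⟨fun _ => ‹LocallyOfFinitePresentation f›, isVCover_of_hasValLift f ?_⟩
  rw [hasValLift_singleton_iff]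
  intro Z g z' z hz
  haveI : Surjective (pullback.fst g f) := MorphismProperty.pullback_fst _ _ inferInstance
  haveI : IsProper (pullback.fst g f) := MorphismProperty.pullback_fst _ _ inferInstance
  obtain ⟨w', hw'⟩ := (pullback.fst g f).surjective z'
  obtain ⟨w, hw, hwz⟩ := (pullback.fst g f).isClosedMap.specializingMap
    (show pullback.fst g f w' ⤳ z by rwa [hw'])
  exact ⟨w', w, hw, hw', hwz⟩

theorem isVCover_of_sigmaDesc {E : PreZeroHypercover.{u} T}
    (h : HTop.IsVCover (PreZeroHypercover.singleton.{w} (Sigma.desc E.f))) : HTop.IsVCover E := by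
  intro U
  obtain ⟨F, hF, hFE⟩ := h U
  choose j a ha using hFE
  have : ∀ i : F.I₀, ∃ G : PreZeroHypercover.{0} (F.X i), HTop.IsStandardV G ∧
      HTop.RefinesOver (F.f i ≫ (U : T.Opens).ι) G E := fun i => by
    haveI := hF.isAffine_obj i
    refine exists_isStandardV_of_local _ E fun x => ?_
    let a' : F.X i ⟶ ∐ E.X := a i
    obtain ⟨k, y, hy⟩ := (sigmaOpenCover E.X).exists_eq (a' x)
    obtain ⟨_, ⟨W, hW, rfl⟩, hxW, hWle⟩ :=
      (F.X i).isBasis_affineOpens.exists_subset_of_mem_open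
        (show x ∈ a' ⁻¹ᵁ (Sigma.ι E.X k).opensRange from ⟨y, hy⟩)
        (a' ⁻¹ᵁ (Sigma.ι E.X k).opensRange).2
    change (F.X i).Opens at W
    haveI : IsAffine W := hW
    refine ⟨W, hW, hxW, PreZeroHypercover.singleton (𝟙 _), ⟨hW, inferInstanceAs (Finite PUnit),
      fun _ => hW, ?_⟩, fun _ => ⟨k, IsOpenImmersion.lift (Sigma.ι E.X k) (W.ι ≫ a') ?_, ?_⟩⟩
    · intro V _ _ t
      exact ⟨V, inferInstance, inferInstance, 𝟙 V, isExtVal_id V, PUnit.unit, t,
        by rw [Spec.map_id, Category.id_comp]; exact Category.comp_id t⟩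
    · rintro - ⟨z, rfl⟩
      exact hWle z.2
    · rw [← Sigma.ι_desc E.f k, IsOpenImmersion.lift_fac_assoc, Category.assoc]
      refine Eq.trans ?_ (Category.id_comp _).symm
      congr 1
      exact ha i
  choose G hG hGE using this
  refine exists_small (F := F.bind G) (isStandardV_bind hF G hG) ?_
  rintro ⟨i, l⟩
  obtain ⟨k, b, hb⟩ := hGE i l
  exact ⟨k, b, by rw [hb]; exact (Category.assoc _ _ _).symm⟩

theorem isHCover_iff_sigmaDesc (E : PreZeroHypercover.{u} T)
    (hE : ∀ i, LocallyOfFinitePresentation (E.f i)) :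
    HTop.IsHCover E ↔ HTop.IsHCover (PreZeroHypercover.singleton.{w} (Sigma.desc E.f)) := by
  have hfp : LocallyOfFinitePresentation (Sigma.desc E.f) := by
    refine (IsZariskiLocalAtSource.iff_of_openCover (P := @LocallyOfFinitePresentation)
      (sigmaOpenCover E.X)).mpr fun i => ?_
    haveI := hE i
    show LocallyOfFinitePresentation (Sigma.ι E.X i ≫ Sigma.desc E.f)
    rw [Sigma.ι_desc]
    infer_instance
  refine ⟨fun h => ⟨fun _ => hfp, fun U => ?_⟩, fun h => ⟨hE, isVCover_of_sigmaDesc h.2⟩⟩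
  obtain ⟨F, hF, hFE⟩ := h.2 U
  refine ⟨F, hF, fun j => ?_⟩
  obtain ⟨i, a, ha⟩ := hFE j
  refine ⟨PUnit.unit, a ≫ Sigma.ι E.X i, ?_⟩
  show (a ≫ Sigma.ι E.X i) ≫ Sigma.desc E.f = _
  rw [Category.assoc, Sigma.ι_desc, ha]

end Groth.Agent.HTopV
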