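import Groth.Prelude.Def_HTop
import Mathlib.AlgebraicGeometry.Sites.Fpqc
import Mathlib.AlgebraicGeometry.Limits

/-!
Criteria for fpqc coverings.
-/

set_option autoImplicit false
set_option linter.style.haveILetI false
set_option backward.isDefEq.respectTransparency false
universe w w' u

open CategoryTheory CategoryTheory.Limits AlgebraicGeometry TopologicalSpace

namespace Groth.Agent.HTopV

variable {T : Scheme.{u}}

theorem mem_fpqc_iff (E : PreZeroHypercover.{w} T) :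
    E.presieve₀ ∈ Scheme.fpqcPrecoverage T ↔
      QuasiCompactCover E ∧ (∀ x, ∃ i, x ∈ Set.range (E.f i)) ∧ ∀ i, Flat (E.f i) := by
  show E.presieve₀ ∈ Scheme.qcPrecoverage T ∧ E.presieve₀ ∈ Scheme.precoverage @Flat T ↔ _
  rw [Scheme.presieve₀_mem_qcPrecoverage_iff, Scheme.presieve₀_mem_precoverage_iff]

theorem exists_covered_subset_range {X Y : Scheme.{u}} (f : X ⟶ Y) {Z : Scheme.{u}}
    [CompactSpace Z] (a : Z ⟶ X) (U : Y.Opens) (h : Set.range (a ≫ f) ⊆ U) :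
    ∃ V : X.Opens, IsCompact (V : Set X) ∧ Set.range a ⊆ V ∧ f '' V ⊆ U := by
  obtain ⟨K, hK, ho, hZK, hKU⟩ := PrespectralSpace.exists_isCompact_and_isOpen_between
    (isCompact_range a.continuous) (f ⁻¹ᵁ U).2 (by
      rintro _ ⟨z, rfl⟩
      exact h ⟨z, rfl⟩)
  exact ⟨⟨K, ho⟩, hK, hZK, by rintro _ ⟨x, hx, rfl⟩; exact hKU hx⟩

theorem mem_fpqc_of_refining (E : PreZeroHypercover.{w} T) (hflat : ∀ i, Flat (E.f i))
    (href : ∀ (Z : Scheme.{u}) [IsAffine Z] (h : Z ⟶ T), ∃ F : PreZeroHypercover.{0} Z,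
      Finite F.I₀ ∧ (∀ j, IsAffine (F.X j)) ∧ (∀ j, Flat (F.f j)) ∧
        (∀ z : Z, ∃ (j : F.I₀) (x : F.X j), F.f j x = z) ∧ HTop.RefinesOver h F E) :
    E.presieve₀ ∈ Scheme.fpqcPrecoverage T := by
  refine (mem_fpqc_iff E).mpr ⟨⟨fun {U} hU => ?_⟩, fun x => ?_, hflat⟩
  · haveI : IsAffine U := hU
    obtain ⟨F, hfin, haff, -, hsurj, hFE⟩ := href U U.ι
    choose i a ha using hFE
    have : ∀ j, ∃ V : (E.X (i j)).Opens, IsCompact (V : Set (E.X (i j))) ∧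
        Set.range (a j) ⊆ V ∧ E.f (i j) '' V ⊆ U := fun j => by
      haveI := haff j
      refine exists_covered_subset_range (E.f (i j)) (a j) U ?_
      rw [ha j]
      rintro _ ⟨z, rfl⟩
      exact ((F.f j) z).2
    choose V hV hVa hVU using this
    refine .of_finite i V hV (subset_antisymm (Set.iUnion_subset hVU) fun x hx => ?_)
    obtain ⟨j, z, hz⟩ := hsurj ⟨x, hx⟩
    refine Set.mem_iUnion.mpr ⟨j, a j z, hVa j ⟨z, rfl⟩, ?_⟩
    rw [← Scheme.Hom.comp_apply, ha j, Scheme.Hom.comp_apply, hz]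
    rfl
  · obtain ⟨_, ⟨U, hU, rfl⟩, hxU, -⟩ :=
      T.isBasis_affineOpens.exists_subset_of_mem_open (Set.mem_univ x) isOpen_univ
    change T.Opens at U
    haveI : IsAffine U := hU
    obtain ⟨F, -, -, -, hsurj, hFE⟩ := href U U.ι
    obtain ⟨j, z, hz⟩ := hsurj ⟨x, hxU⟩
    obtain ⟨i, a, ha⟩ := hFE j
    refine ⟨i, a z, ?_⟩
    rw [← Scheme.Hom.comp_apply, ha, Scheme.Hom.comp_apply, hz]
    rfl

theorem mem_fpqc_of_local (E : PreZeroHypercover.{w} T) (hflat : ∀ i, Flat (E.f i))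
    (𝒱 : Scheme.Cover.{w'} Scheme.fpqcPrecoverage T)
    (hloc : ∀ j, (E.pullback₁ (𝒱.f j)).presieve₀ ∈ Scheme.fpqcPrecoverage (𝒱.X j)) :
    E.presieve₀ ∈ Scheme.fpqcPrecoverage T := by
  obtain ⟨hqc, hsurj, -⟩ := (mem_fpqc_iff _).mp 𝒱.mem₀
  refine (mem_fpqc_iff E).mpr ⟨⟨fun {U} hU => ?_⟩, fun x => ?_, hflat⟩
  · haveI := hqc
    obtain ⟨n, k, W, hW, hWU⟩ :=
      QuasiCompactCover.exists_isAffineOpen_of_isCompact 𝒱.toPreZeroHypercover hU.isCompact
    have : ∀ l, ∃ (m : ℕ) (i : Fin m → E.I₀) (V : ∀ q, (E.X (i q)).Opens),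
        (∀ q, IsCompact (V q : Set (E.X (i q)))) ∧ (∀ q, E.f (i q) '' V q ⊆ U) ∧
          𝒱.f (k l) '' W l ⊆ ⋃ q, E.f (i q) '' V q := fun l => by
      haveI := ((mem_fpqc_iff _).mp (hloc (k l))).1
      obtain ⟨m, i, B, hB, hBW⟩ := QuasiCompactCover.exists_isAffineOpen_of_isCompact
        (E.pullback₁ (𝒱.f (k l))) (hW l).isCompact
      have h : ∀ q, ∃ V : (E.X (i q)).Opens, IsCompact (V : Set (E.X (i q))) ∧
          Set.range ((B q).ι ≫ pullback.snd (𝒱.f (k l)) (E.f (i q))) ⊆ V ∧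
            E.f (i q) '' V ⊆ U := fun q => by
        haveI : IsAffine (B q) := hB q
        refine exists_covered_subset_range (E.f (i q))
          ((B q).ι ≫ pullback.snd (𝒱.f (k l)) (E.f (i q))) U ?_
        rw [Category.assoc, ← pullback.condition]
        rintro _ ⟨z, rfl⟩
        rw [← hWU]
        refine Set.mem_iUnion.mpr ⟨l, pullback.fst (𝒱.f (k l)) (E.f (i q)) z.1, ?_, rfl⟩
        rw [← hBW]
        exact Set.mem_iUnion.mpr ⟨q, z.1, z.2, rfl⟩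
      choose V hV hVa hVU using h
      refine ⟨m, i, V, hV, hVU, ?_⟩
      rintro _ ⟨y, hy, rfl⟩
      rw [← hBW] at hy
      obtain ⟨q, z, hz, rfl⟩ := Set.mem_iUnion.mp hy
      refine Set.mem_iUnion.mpr ⟨q, pullback.snd (𝒱.f (k l)) (E.f (i q)) z, hVa q ⟨⟨z, hz⟩, rfl⟩, ?_⟩
      show E.f (i q) (pullback.snd (𝒱.f (k l)) (E.f (i q)) z) =
        𝒱.f (k l) (pullback.fst (𝒱.f (k l)) (E.f (i q)) z)
      rw [← Scheme.Hom.comp_apply, ← pullback.condition, Scheme.Hom.comp_apply]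
    choose m i V hV hVU hWV using this
    refine .of_finite (κ := Σ l, Fin (m l)) (fun p => i p.1 p.2) (fun p => V p.1 p.2)
      (fun p => hV _ _) (subset_antisymm (Set.iUnion_subset fun p => hVU _ _) ?_)
    rw [← hWU]
    refine Set.iUnion_subset fun l => (hWV l).trans ?_
    exact Set.iUnion_subset fun q => Set.subset_iUnion_of_subset ⟨l, q⟩ subset_rfl
  · obtain ⟨j, y, rfl⟩ := hsurj x
    obtain ⟨i, z, rfl⟩ := ((mem_fpqc_iff _).mp (hloc j)).2.1 y
    refine ⟨i, pullback.snd (𝒱.f j) (E.f i) z, ?_⟩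
    show E.f i (pullback.snd (𝒱.f j) (E.f i) z) = 𝒱.f j (pullback.fst (𝒱.f j) (E.f i) z)
    rw [← Scheme.Hom.comp_apply, ← pullback.condition, Scheme.Hom.comp_apply]

theorem quasiCompactCover_iff_nhds [QuasiSeparatedSpace T] (E : PreZeroHypercover.{w} T) :
    QuasiCompactCover E ↔ ∀ t : T, ∃ (n : ℕ) (i : Fin n → E.I₀) (V : ∀ j, (E.X (i j)).Opens),
      (∀ j, IsCompact (V j : Set (E.X (i j)))) ∧
        (⋃ j, ⇑(E.f (i j)) '' (V j : Set (E.X (i j)))) ∈ nhds t := by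
  refine ⟨fun _ t => ?_, fun h => ⟨fun {U} hU => ?_⟩⟩
  · obtain ⟨_, ⟨U, hU, rfl⟩, htU, -⟩ :=
      T.isBasis_affineOpens.exists_subset_of_mem_open (Set.mem_univ t) isOpen_univ
    obtain ⟨n, i, V, hV, hVU⟩ :=
      QuasiCompactCover.exists_isAffineOpen_of_isCompact E hU.isCompact
    exact ⟨n, i, V, fun j => (hV j).isCompact, hVU ▸ U.2.mem_nhds htU⟩
  · refine .of_isCompact_of_forall_exists_isCompactOpenCovered hU.isCompact fun x hx => ?_
    obtain ⟨n, i, V, hV, hN⟩ := h x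
    obtain ⟨O, hOsub, hO, hxO⟩ := mem_nhds_iff.mp hN
    obtain ⟨_, ⟨A, hA, rfl⟩, hxA, hAle⟩ := T.isBasis_affineOpens.exists_subset_of_mem_open
      (show x ∈ O ∩ (U : Set T) from ⟨hxO, hx⟩) (hO.inter U.2)
    change T.Opens at A
    refine ⟨A, fun y hy => (hAle hy).2, hxA, A.2,
      .of_finite i (fun j => V j ⊓ E.f (i j) ⁻¹ᵁ A) (fun j => ?_) ?_⟩
    · haveI : CompactSpace (V j) := isCompact_iff_compactSpace.mp (hV j)
      have hc := ((V j).ι ≫ E.f (i j)).isCompact_preimage (U := A) hA.isCompact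
      have := hc.image (V j).ι.continuous
      convert this using 1
      ext z
      constructor
      · rintro ⟨hz, hz'⟩
        exact ⟨⟨z, hz⟩, hz', rfl⟩
      · rintro ⟨w, hw, rfl⟩
        exact ⟨w.2, hw⟩
    · refine subset_antisymm (Set.iUnion_subset fun j => ?_) fun y hy => ?_
      · rintro _ ⟨z, hz, rfl⟩
        exact hz.2
      · obtain ⟨j, z, hz, rfl⟩ := Set.mem_iUnion.mp (hOsub (hAle hy).1)
        exact Set.mem_iUnion.mpr ⟨j, z, ⟨hz, hy⟩, rfl⟩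

theorem mem_fpqc_iff_sigmaDesc (E : PreZeroHypercover.{u} T) :
    E.presieve₀ ∈ Scheme.fpqcPrecoverage T ↔
      Presieve.singleton (Sigma.desc E.f) ∈ Scheme.fpqcPrecoverage T := by
  rw [← PreZeroHypercover.presieve₀_singleton.{_, _, u}, mem_fpqc_iff, mem_fpqc_iff]
  have key : ∀ p, Sigma.desc E.f (sigmaMk E.X p) = E.f p.1 p.2 := fun p => by
    rw [sigmaMk_mk, ← Scheme.Hom.comp_apply, Sigma.ι_desc]
  refine and_congr ⟨fun _ => ?_, fun h => ?_⟩ (and_congr ⟨fun h x => ?_, fun h x => ?_⟩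
    ⟨fun h _ => ?_, fun h i => ?_⟩)
  · exact QuasiCompactCover.of_hom (𝒰 := PreZeroHypercover.singleton (Sigma.desc E.f)) (𝒱 := E)
      ⟨fun _ => PUnit.unit, fun i => Sigma.ι E.X i, fun i => Sigma.ι_desc _ _⟩
  · refine ⟨fun {U} hU => IsCompactOpenCovered.iff_isCompactOpenCovered_sigmaMk.mpr ?_⟩
    have hs := h.isCompactOpenCovered_of_isAffineOpen hU
    rw [IsCompactOpenCovered.iff_of_unique] at hs
    obtain ⟨V, hV, hVU⟩ := hs
    let e := sigmaMk E.X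
    change TopologicalSpace.Opens ↥(∐ E.X) at V
    refine IsCompactOpenCovered.iff_of_unique.mpr
      ⟨⟨e ⁻¹' (V : Set ↥(∐ E.X)), V.2.preimage e.continuous⟩, e.isCompact_preimage.mpr hV, ?_⟩
    rw [← hVU]
    ext x
    constructor
    · rintro ⟨p, hp, rfl⟩
      exact ⟨e p, hp, key p⟩
    · rintro ⟨y, hy, rfl⟩
      obtain ⟨p, rfl⟩ := e.surjective y
      exact ⟨p, hy, (key p).symm⟩
  · obtain ⟨i, y, rfl⟩ := h x
    exact ⟨PUnit.unit, Sigma.ι E.X i y, by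
      show Sigma.desc E.f (Sigma.ι E.X i y) = E.f i y
      rw [← Scheme.Hom.comp_apply, Sigma.ι_desc]⟩
  · obtain ⟨-, y, rfl⟩ := h x
    obtain ⟨p, rfl⟩ := (sigmaMk E.X).surjective y
    exact ⟨p.1, p.2, (key p).symm⟩
  · refine (IsZariskiLocalAtSource.iff_of_openCover (P := @Flat) (sigmaOpenCover E.X)).mpr fun i => ?_
    haveI := h i
    show Flat (Sigma.ι E.X i ≫ Sigma.desc E.f)
    rw [Sigma.ι_desc]
    infer_instance
  · haveI : Flat (Sigma.desc E.f) := h PUnit.unit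
    rw [← Sigma.ι_desc E.f i]
    infer_instance

end Groth.Agent.HTopV
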