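import Groth.Agent.HTopV.SquareSheaf
import Groth.Agent.BlowUpExist.Proper
import Groth.Agent.AlmostBlow.Basic
import Groth.Agent.S4599
import Groth.Prelude.Def_HTop3

/-!
ph sheaves turn abstract blow-up squares into cartesian squares of sections.
-/

set_option autoImplicit false
set_option linter.style.haveILetI false
set_option backward.isDefEq.respectTransparency false
universe w u

open CategoryTheory CategoryTheory.Limits AlgebraicGeometry Opposite

namespace Groth.Agent.HTopV

variable {S : Scheme.{u}}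

theorem isSheafFor_pairFam_ph (F : HTop.ShPh S) {Z X' X : Over S} (i : Z ⟶ X) (b : X' ⟶ X)
    [IsProper i.left] [IsProper b.left]
    (hsurj : ∀ x : X.left, x ∈ Set.range i.left ∨ x ∈ Set.range b.left) :
    Presieve.IsSheafFor F.obj (pairFam i b).presieve₀ := by
  rw [Presieve.isSheafFor_iff_generate]
  refine ((isSheaf_iff_isSheaf_of_type _ _).mp F.property) _ (generate_presieve₀_mem_over _
    ((HTop.presieve₀_mem_phPrecoverage_iff _).mpr ?_))
  let E' : PreZeroHypercover.{u} X.left :=
    { I₀ := (pairFam i b).I₀, X := fun k => ((pairFam i b).X k).left, f := fun k => ((pairFam i b).f k).left }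
  haveI : Finite E'.I₀ := inferInstanceAs (Finite (ULift.{u} Bool))
  haveI : ∀ k, IsProper (E'.f k) := by
    rintro ⟨_ | _⟩
    · exact ‹IsProper i.left›
    · exact ‹IsProper b.left›
  refine isPhCover_of_isProper_family E' fun x => ?_
  rcases hsurj x with h | h
  · exact ⟨⟨false⟩, h⟩
  · exact ⟨⟨true⟩, h⟩

/-- The descent statement for squares which are isomorphisms away from a closed subscheme. -/
theorem existsUnique_of_square_ph (F : HTop.ShPh S) {E Z X' X : Over S} (e : E ⟶ X') (π : E ⟶ Z)
    (b : X' ⟶ X) (i : Z ⟶ X) [IsClosedImmersion i.left]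
    [IsProper b.left]
    (hE : IsPullback e.left π.left b.left i.left)
    (hsurj : ∀ x : X.left, x ∈ Set.range i.left ∨ x ∈ Set.range b.left)
    (hmono : ∀ {T : Scheme.{u}} (a c : T ⟶ X'.left), a ≫ b.left = c ≫ b.left →
      (∀ z, b.left (a z) ∉ Set.range i.left) → a = c)
    (t : F.obj.obj (op Z)) (s' : F.obj.obj (op X')) (hts : F.obj.map π.op t = F.obj.map e.op s') :
    ∃! s : F.obj.obj (op X), F.obj.map i.op s = t ∧ F.obj.map b.op s = s' := by
  haveI : Mono i := (Over.forget S).mono_of_mono_map (inferInstanceAs (Mono i.left))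
  let P : Over S := Over.mk (pullback.fst b.left b.left ≫ X'.hom)
  let p₁ : P ⟶ X' := Over.homMk (pullback.fst b.left b.left) rfl
  let p₂ : P ⟶ X' := Over.homMk (pullback.snd b.left b.left) (by
    show pullback.snd b.left b.left ≫ X'.hom = pullback.fst b.left b.left ≫ X'.hom
    rw [← Over.w b, ← pullback.condition_assoc])
  let Δ : X' ⟶ P := Over.homMk (pullback.diagonal b.left) (by
    show pullback.diagonal b.left ≫ pullback.fst b.left b.left ≫ X'.hom = _
    rw [pullback.diagonal_fst_assoc])
  let W : Over S := Over.mk (pullback.fst (pullback.fst b.left b.left ≫ b.left) i.left ≫ P.hom)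
  let m : W ⟶ P := Over.homMk (pullback.fst (pullback.fst b.left b.left ≫ b.left) i.left) rfl
  let z : W.left ⟶ Z.left := pullback.snd (pullback.fst b.left b.left ≫ b.left) i.left
  have hm : m.left ≫ pullback.fst b.left b.left ≫ b.left = z ≫ i.left := pullback.condition
  have hlift : ∀ {T : Over S} (a : T ⟶ X') (c : T ⟶ Z), a ≫ b = c ≫ i →
      ∃ l : T ⟶ E, l ≫ e = a ∧ l ≫ π = c := fun {T} a c h => by
    have h' := congrArg CommaMorphism.left h
    simp only [Over.comp_left] at h'
    refine ⟨Over.homMk (hE.lift a.left c.left h') ?_, ?_, ?_⟩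
    · rw [← Over.w e, hE.lift_fst_assoc, Over.w a]
    · ext; exact hE.lift_fst _ _ _
    · ext; exact hE.lift_snd _ _ _
  have hsep : F.obj.map p₁.op s' = F.obj.map p₂.op s' := by
    haveI : IsProper Δ.left := inferInstanceAs (IsProper (pullback.diagonal b.left))
    haveI : IsProper m.left :=
      inferInstanceAs (IsProper (pullback.fst (pullback.fst b.left b.left ≫ b.left) i.left))
    refine (isSheafFor_pairFam_ph F m Δ fun p => ?_).isSeparatedFor.ext ?_
    · by_cases hp : (pullback.fst b.left b.left ≫ b.left) p ∈ Set.range i.left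
      · left
        obtain ⟨v, hv⟩ := hp
        obtain ⟨w, hw, -⟩ := Scheme.Pullback.exists_preimage_pullback
          (f := pullback.fst b.left b.left ≫ b.left) (g := i.left) p v hv.symm
        exact ⟨w, hw⟩
      · right
        let O : (pullback b.left b.left).Opens := (pullback.fst b.left b.left ≫ b.left) ⁻¹ᵁ
          ⟨(Set.range i.left)ᶜ, i.left.isClosedEmbedding.isClosed_range.isOpen_compl⟩
        have heq : O.ι ≫ pullback.fst b.left b.left = O.ι ≫ pullback.snd b.left b.left := by
          refine hmono _ _ (by simp [pullback.condition]) fun q => ?_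
          exact q.2
        have : O.ι = (O.ι ≫ pullback.fst b.left b.left) ≫ pullback.diagonal b.left := by
          ext
          · simp
          · simp [heq]
        refine ⟨(O.ι ≫ pullback.fst b.left b.left) ⟨p, hp⟩, ?_⟩
        show (pullback.diagonal b.left) _ = p
        rw [← Scheme.Hom.comp_apply, ← this]
        rfl
    · rintro Y g ⟨⟨_ | _⟩⟩
      · show F.obj.map m.op _ = F.obj.map m.op _
        have h₁ : (m ≫ p₁) ≫ b = Over.homMk z (by
            show z ≫ Z.hom = _
            rw [← Over.w i, ← Category.assoc, ← hm, Category.assoc, Category.assoc, Over.w b]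
            rfl) ≫ i := by
          ext
          simpa [p₁] using hm
        have h₂ : (m ≫ p₂) ≫ b = (m ≫ p₁) ≫ b := by
          ext
          simp [p₁, p₂, pullback.condition]
        obtain ⟨l₁, hl₁, hl₁'⟩ := hlift _ _ h₁
        obtain ⟨l₂, hl₂, hl₂'⟩ := hlift _ _ (h₂.trans h₁)
        rw [← Functor.map_comp_apply, ← op_comp, ← Functor.map_comp_apply, ← op_comp, ← hl₁, ← hl₂,
          op_comp, op_comp, Functor.map_comp_apply, Functor.map_comp_apply, ← hts,
          ← Functor.map_comp_apply, ← Functor.map_comp_apply, ← op_comp, ← op_comp, hl₁', hl₂']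
      · show F.obj.map Δ.op _ = F.obj.map Δ.op _
        rw [← Functor.map_comp_apply, ← op_comp, ← Functor.map_comp_apply, ← op_comp,
          show Δ ≫ p₁ = Δ ≫ p₂ from by ext; simp [Δ, p₁, p₂]]
  have hsh := (Presieve.isSheafFor_arrows_iff _ _).mp (isSheafFor_pairFam_ph F i b hsurj)
  let x : ∀ k : (pairFam i b).I₀, F.obj.obj (op ((pairFam i b).X k)) := fun k => match k with
    | ⟨false⟩ => t
    | ⟨true⟩ => s'
  have hcompat : ∀ {T : Over S} (a : T ⟶ X') (c : T ⟶ Z), a ≫ b = c ≫ i →
      F.obj.map c.op t = F.obj.map a.op s' := fun {T} a c h => by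
    obtain ⟨l, hl, hl'⟩ := hlift a c h
    rw [← hl, ← hl', op_comp, op_comp, Functor.map_comp_apply, Functor.map_comp_apply, hts]
  have hcompat' : ∀ {T : Over S} (g₁ g₂ : T ⟶ X'), g₁ ≫ b = g₂ ≫ b →
      F.obj.map g₁.op s' = F.obj.map g₂.op s' := fun {T} g₁ g₂ h => by
    have h' := congrArg CommaMorphism.left h
    simp only [Over.comp_left] at h'
    let k : T ⟶ P := Over.homMk (pullback.lift g₁.left g₂.left h') (by
      show pullback.lift g₁.left g₂.left h' ≫ pullback.fst b.left b.left ≫ X'.hom = T.hom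
      rw [pullback.lift_fst_assoc, Over.w g₁])
    rw [show g₁ = k ≫ p₁ from by ext; exact (pullback.lift_fst _ _ _).symm,
      show g₂ = k ≫ p₂ from by ext; exact (pullback.lift_snd _ _ _).symm,
      op_comp, op_comp, Functor.map_comp_apply, Functor.map_comp_apply, hsep]
  have hx : Presieve.Arrows.Compatible F.obj (pairFam i b).f x := by
    rintro ⟨_ | _⟩ ⟨_ | _⟩ T g₁ g₂ h
    · change F.obj.map g₁.op t = F.obj.map g₂.op t
      rw [(cancel_mono i).mp h]
    · exact hcompat g₂ g₁ h.symm
    · exact (hcompat g₁ g₂ h).symm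
    · exact hcompat' g₁ g₂ h
  obtain ⟨s, hs, hu⟩ := hsh x hx
  refine ⟨s, ⟨hs ⟨false⟩, hs ⟨true⟩⟩, fun y hy => hu y ?_⟩
  rintro ⟨_ | _⟩
  · exact hy.1
  · exact hy.2

theorem fg_ker_ideal {Z X : Scheme.{u}} (i : Z ⟶ X) [IsClosedImmersion i] [LocallyOfFinitePresentation i]
    (U : X.affineOpens) : (i.ker.ideal U).FG := by
  rw [Scheme.Hom.ker_apply]
  have h1 : Function.Surjective (i.app U.1).hom := i.app_surjective U.1 U.2
  have h2 : (i.app U.1).hom.FinitePresentation := by
    have := LocallyOfFinitePresentation.finitePresentation_appLE i U.2 (U.2.preimage i) le_rfl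
    rwa [← i.app_eq_appLE] at this
  algebraize [(i.app U.1).hom]
  exact Algebra.FinitePresentation.ker_fG_of_surjective (Algebra.ofId Γ(X, U.1) Γ(Z, i ⁻¹ᵁ U.1)) h1

theorem existsUnique_of_blowUp_ph (F : HTop.ShPh S) {E Z X' X : Over S} (e : E ⟶ X') (π : E ⟶ Z)
    (b : X' ⟶ X) (i : Z ⟶ X) [IsClosedImmersion i.left] [LocallyOfFinitePresentation i.left]
    (hb : BlowUp.IsBlowUp b.left i.left.ker) (hE : IsPullback e.left π.left b.left i.left)
    (t : F.obj.obj (op Z)) (s' : F.obj.obj (op X')) (hts : F.obj.map π.op t = F.obj.map e.op s') :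
    ∃! s : F.obj.obj (op X), F.obj.map i.op s = t ∧ F.obj.map b.op s = s' := by
  haveI : IsProper b.left :=
    BlowUpExist.isProper_of_isFiniteType hb fun U => fg_ker_ideal i.left U
  haveI := BlowUpLib.isIso_restrict hb
  let U : X.left.Opens := i.left.ker.support.compl
  have hU : ∀ x : X.left, x ∈ U ↔ x ∉ Set.range i.left := fun x => by
    show x ∈ (i.left.ker.support : Set X.left)ᶜ ↔ _
    rw [i.left.support_ker, i.left.isClosedEmbedding.isClosed_range.closure_eq]
    rfl
  refine existsUnique_of_square_ph F e π b i hE (fun x => ?_) (fun {T} a c hac ha => ?_) t s' hts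
  · by_cases hx : x ∈ Set.range i.left
    · exact Or.inl hx
    · right
      obtain ⟨y, hy⟩ := (b.left ∣_ U).surjective ⟨x, (hU x).mpr hx⟩
      refine ⟨y.1, ?_⟩
      rw [← morphismRestrict_base_coe, hy]
  · have hr : ∀ d : T ⟶ X'.left, (∀ q, b.left (d q) ∉ Set.range i.left) →
        Set.range d ⊆ Set.range (b.left ⁻¹ᵁ U).ι := by
      intro d hd
      rintro _ ⟨q, rfl⟩
      rw [Scheme.Opens.range_ι]
      exact (hU _).mpr (hd q)
    have hc : ∀ q, b.left (c q) ∉ Set.range i.left := fun q => by
      rw [← Scheme.Hom.comp_apply, ← hac, Scheme.Hom.comp_apply]; exact ha q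
    rw [← IsOpenImmersion.lift_fac _ a (hr a ha), ← IsOpenImmersion.lift_fac _ c (hr c hc)]
    congr 1
    rw [← cancel_mono (b.left ∣_ U), ← cancel_mono U.ι]
    simp only [Category.assoc, morphismRestrict_ι, IsOpenImmersion.lift_fac_assoc, hac]

end Groth.Agent.HTopV
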