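import Groth.Agent.HTopV.Subtrusive
import Groth.Agent.ConsEngine.Core
import Groth.Agent.BlowUpLib.Basic
import Groth.Agent.S1681
import Groth.Prelude.Def_BlowUp2

/-!
Applications of the valuative description of universally submersive morphisms.
-/

set_option autoImplicit false
set_option linter.style.haveILetI false
set_option backward.isDefEq.respectTransparency false
universe w u

open CategoryTheory CategoryTheory.Limits AlgebraicGeometry TopologicalSpace

namespace Groth.Agent.HTopV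

theorem exists_spec_dvr {Z : Scheme.{u}} [IsLocallyNoetherian Z] {z' z : Z} (hz : z' ⤳ z)
    (hne : z ≠ z') : ∃ (A : Type u) (_ : CommRing A) (_ : IsDomain A) (_ : IsDiscreteValuationRing A)
      (t : Spec (CommRingCat.of A) ⟶ Z),
      t ⟨⊥, Ideal.isPrime_bot⟩ = z' ∧ t (IsLocalRing.closedPoint A) = z := by
  obtain ⟨A, t, hA, ht, hgen⟩ := DvrDom.exists_dvr_through (𝟙 Z) z' z hz hne
  refine ⟨A, inferInstance, inferInstance, hA, t, ?_, ht⟩
  have h1 := congrArg (fun m => m.base (IsLocalRing.closedPoint (Z.residueField z'))) hgen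
  refine Eq.trans ?_ (h1.trans (Z.fromSpecResidueField_apply z' _))
  refine congrArg t.base (PrimeSpectrum.ext (Ideal.ext fun a => ?_))
  show a ∈ (⊥ : Ideal A) ↔ A.subtype a ∈ IsLocalRing.maximalIdeal (Z.residueField z')
  rw [IsLocalRing.mem_maximalIdeal, mem_nonunits_iff, isUnit_iff_ne_zero, not_not, Ideal.mem_bot]
  exact (map_eq_zero_iff _ Subtype.val_injective).symm

theorem bot_ne_closedPoint (R : Type u) [CommRing R] [IsDomain R] [IsDiscreteValuationRing R] :
    (⟨⊥, Ideal.isPrime_bot⟩ : PrimeSpectrum R) ≠ IsLocalRing.closedPoint R := fun h =>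
  IsDiscreteValuationRing.not_a_field R (congrArg PrimeSpectrum.asIdeal h).symm

theorem specializes_of_surjective {R R' : Type u} [CommRing R] [IsDomain R] [IsDiscreteValuationRing R]
    [CommRing R'] [IsDomain R'] [IsDiscreteValuationRing R']
    (φ : Spec (CommRingCat.of R') ⟶ Spec (CommRingCat.of R)) [Surjective φ] :
    φ ⟨⊥, Ideal.isPrime_bot⟩ = ⟨⊥, Ideal.isPrime_bot⟩ ∧
      φ (IsLocalRing.closedPoint R') = IsLocalRing.closedPoint R := by
  obtain ⟨p, hp⟩ := φ.surjective ⟨⊥, Ideal.isPrime_bot⟩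
  obtain ⟨r, hr⟩ := φ.surjective (IsLocalRing.closedPoint R)
  have hsp : φ ⟨⊥, Ideal.isPrime_bot⟩ ⤳ φ (IsLocalRing.closedPoint R') :=
    (IsLocalRing.specializes_closedPoint (⟨⊥, Ideal.isPrime_bot⟩ : PrimeSpectrum R')).map φ.continuous
  rcases dvrLift_of_univSubmersive.eq_bot_or_closed p with rfl | rfl <;>
    rcases dvrLift_of_univSubmersive.eq_bot_or_closed r with rfl | rfl
  · exact absurd (hp.symm.trans hr) (bot_ne_closedPoint R)
  · exact ⟨hp, hr⟩
  · rw [hp, hr] at hsp
    have h1 := (PrimeSpectrum.le_iff_specializes _ _).mpr hsp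
    exact absurd (PrimeSpectrum.ext (le_bot_iff.mp (show (IsLocalRing.closedPoint R).asIdeal ≤ ⊥ from h1))).symm (bot_ne_closedPoint R)
  · exact absurd (hp.symm.trans hr) (bot_ne_closedPoint R)

theorem univSubmersive_iff_dvr {X S : Scheme.{u}} [IsLocallyNoetherian S] (f : X ⟶ S)
    [LocallyOfFiniteType f] [QuasiCompact f] :
    SGA1.UnivSubmersive f ↔ ∀ (R : Type u) [CommRing R] [IsDomain R] [IsDiscreteValuationRing R]
      (g : Spec (CommRingCat.of R) ⟶ S), ∃ (R' : Type u) (_ : CommRing R') (_ : IsDomain R')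
        (_ : IsDiscreteValuationRing R') (φ : Spec (CommRingCat.of R') ⟶ Spec (CommRingCat.of R))
        (h : Spec (CommRingCat.of R') ⟶ X), Surjective φ ∧ h ≫ f = φ ≫ g := by
  refine ⟨fun hf R _ _ _ g => ?_, fun h => univSubmersive_of_dvrLift f fun R _ _ _ g => ?_⟩
  · obtain ⟨w', w, hw, h', hc⟩ := dvrLift_of_univSubmersive f hf R g
    haveI : IsLocallyNoetherian ↑(pullback g f) :=
      LocallyOfFiniteType.isLocallyNoetherian (pullback.fst g f)
    obtain ⟨A, i1, i2, i3, t, ht', ht⟩ := exists_spec_dvr hw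
      (fun e => bot_ne_closedPoint R (h'.symm.trans ((congrArg _ e.symm).trans hc)))
    refine ⟨A, i1, i2, i3, t ≫ pullback.fst g f, t ≫ pullback.snd g f, ⟨fun p => ?_⟩,
      by rw [Category.assoc, Category.assoc, pullback.condition]⟩
    rcases dvrLift_of_univSubmersive.eq_bot_or_closed p with rfl | rfl
    · exact ⟨⟨⊥, Ideal.isPrime_bot⟩, by rw [Scheme.Hom.comp_apply, ht', h']⟩
    · exact ⟨IsLocalRing.closedPoint A, by rw [Scheme.Hom.comp_apply, ht, hc]⟩
  · obtain ⟨R', i1, i2, i3, φ, l, hφ, hl⟩ := h R g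
    haveI := hφ
    let m : Spec (CommRingCat.of R') ⟶ pullback g f := pullback.lift φ l hl.symm
    obtain ⟨h₀, h₁⟩ := specializes_of_surjective φ
    refine ⟨m ⟨⊥, Ideal.isPrime_bot⟩, m (IsLocalRing.closedPoint R'),
      (IsLocalRing.specializes_closedPoint _).map m.continuous, ?_, ?_⟩
    · rw [← Scheme.Hom.comp_apply, pullback.lift_fst, h₀]
    · rw [← Scheme.Hom.comp_apply, pullback.lift_fst, h₁]

theorem quasiCompact_sigmaDesc {X : Scheme.{u}} [IsNoetherian X] (E : PreZeroHypercover.{u} X)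
    [Finite E.I₀] [∀ i, QuasiCompact (E.f i)] : QuasiCompact (Sigma.desc E.f) := by
  haveI : ∀ i, CompactSpace (E.X i) := fun i => QuasiCompact.compactSpace_of_compactSpace (E.f i)
  haveI : ∀ i, CompactSpace ↥((sigmaOpenCover E.X).X i) := fun i => inferInstanceAs (CompactSpace (E.X i))
  haveI : Finite (sigmaOpenCover E.X).I₀ := inferInstanceAs (Finite E.I₀)
  haveI : CompactSpace ↥(∐ E.X) := Scheme.OpenCover.compactSpace (sigmaOpenCover E.X)
  infer_instance

theorem univSubmersive_sigmaDesc_iff_isHCover {X : Scheme.{u}} [IsNoetherian X]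
    (E : PreZeroHypercover.{u} X) [Finite E.I₀] [∀ i, LocallyOfFiniteType (E.f i)]
    [∀ i, QuasiCompact (E.f i)] : SGA1.UnivSubmersive (Sigma.desc E.f) ↔ HTop.IsHCover E := by
  haveI := quasiCompact_sigmaDesc E
  exact ⟨fun h => ⟨fun i => ConsEngine.lfp_of_lft (E.f i), isVCover_of_sigmaDesc
    (isVCover_singleton_of_dvrLift.{u} _ (dvrLift_of_univSubmersive _ h))⟩,
    fun h => univSubmersive_sigmaDesc h.2⟩

theorem exists_specializes_over_maximal {X : Scheme.{u}} [IsLocallyNoetherian X]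
    (E : PreZeroHypercover.{u} X) (hE : SGA1.UnivSubmersive (Sigma.desc E.f)) (x : X) :
    ∃ (i : E.I₀) (ξ u : E.X i), ξ ⤳ u ∧ E.f i u = x ∧
      closure {E.f i ξ} ∈ irreducibleComponents ↥X := by
  let C := irreducibleComponent x
  have hC : IsIrreducible C := isIrreducible_irreducibleComponent
  have hg := hC.isGenericPoint_genericPoint isClosed_irreducibleComponent
  have hsp : hC.genericPoint ⤳ x := hg.specializes mem_irreducibleComponent
  obtain ⟨w', w, hw, h', hc⟩ := (dvrLift_of_univSubmersive _ hE).exists_specializes (𝟙 X) hsp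
  obtain ⟨i, u, hu⟩ := (sigmaOpenCover E.X).exists_eq (pullback.snd (𝟙 X) (Sigma.desc E.f) w)
  change Sigma.ι E.X i u = _ at hu
  have hsp2 : pullback.snd (𝟙 X) (Sigma.desc E.f) w' ⤳ Sigma.ι E.X i u := by
    rw [hu]; exact hw.map (pullback.snd (𝟙 X) (Sigma.desc E.f)).continuous
  obtain ⟨ξ, hξ⟩ := hsp2.mem_open (Sigma.ι E.X i).isOpenEmbedding.isOpen_range ⟨u, rfl⟩
  rw [← hξ] at hsp2
  have key : ∀ (p : ↑(pullback (𝟙 X) (Sigma.desc E.f))) (v : E.X i),
      Sigma.ι E.X i v = pullback.snd (𝟙 X) (Sigma.desc E.f) p →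
        E.f i v = pullback.fst (𝟙 X) (Sigma.desc E.f) p := fun p v hv => by
    rw [← Sigma.ι_desc E.f i, Scheme.Hom.comp_apply, hv, ← Scheme.Hom.comp_apply,
      ← pullback.condition, Category.comp_id]
  refine ⟨i, ξ, u, (Sigma.ι E.X i).isOpenEmbedding.isInducing.specializes_iff.mp hsp2,
    (key w u hu).trans hc, ?_⟩
  rw [key w' ξ hξ, h', hg.def]
  exact irreducibleComponent_mem_irreducibleComponents x

theorem eq_top_of_univSubmersive_restrict_blowUp {X X' : Scheme.{u}} [IsLocallyNoetherian X]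
    [IsIntegral X] [X'.IsSeparated] (𝓘 : X.IdealSheafData) (b : X' ⟶ X) [LocallyOfFiniteType b]
    (hb : BlowUp.IsBlowUp b 𝓘) (U : X'.Opens) (hU : SGA1.UnivSubmersive (U.ι ≫ b)) : U = ⊤ := by
  haveI : IsLocallyNoetherian X' := LocallyOfFiniteType.isLocallyNoetherian b
  have hbij := Groth.Agent.S1681.result 𝓘 b hb
  have hmax : ∀ x : X, (∀ y : X, y ⤳ x → y = x) → x = genericPoint X := fun x hx =>
    (hx _ ((genericPoint_spec X).specializes trivial)).symm
  have hmono : ∀ {T : Scheme.{u}} (a c : T ⟶ X'), a ≫ b = c ≫ b →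
      (∀ z, b (a z) ∈ 𝓘.support.compl) → a = c := fun {T} a c e ha => by
    haveI := BlowUpLib.isIso_restrict hb
    let O : X'.Opens := b ⁻¹ᵁ 𝓘.support.compl
    have hr : ∀ d : T ⟶ X', (∀ z, b (d z) ∈ 𝓘.support.compl) → Set.range d ⊆ Set.range O.ι := by
      intro d hd
      rintro _ ⟨z, rfl⟩
      rw [Scheme.Opens.range_ι]
      exact hd z
    have hc : ∀ z, b (c z) ∈ 𝓘.support.compl := fun z => by
      rw [← Scheme.Hom.comp_apply, ← e, Scheme.Hom.comp_apply]; exact ha z
    rw [← IsOpenImmersion.lift_fac O.ι a (hr a ha), ← IsOpenImmersion.lift_fac O.ι c (hr c hc)]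
    congr 1
    rw [← cancel_mono (b ∣_ 𝓘.support.compl), ← cancel_mono (Scheme.Opens.ι _)]
    simp only [Category.assoc, morphismRestrict_ι, O, IsOpenImmersion.lift_fac_assoc, e]
  refine eq_top_iff.mpr fun x _ => ?_
  obtain ⟨ζ, hζx, hζ⟩ : ∃ ζ : X', ζ ⤳ x ∧ ∀ y : X', y ⤳ ζ → y = ζ := by
    have hC : IsIrreducible (irreducibleComponent x) := isIrreducible_irreducibleComponent
    have hg := hC.isGenericPoint_genericPoint isClosed_irreducibleComponent
    refine ⟨hC.genericPoint, hg.specializes mem_irreducibleComponent, fun y hy => ?_⟩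
    have hsub : irreducibleComponent x ⊆ closure {y} :=
      hg.def.symm.subset.trans (closure_minimal (Set.singleton_subset_iff.mpr hy.mem_closure)
        isClosed_closure)
    have h1 := eq_irreducibleComponent isIrreducible_singleton.closure.isPreirreducible hsub
    exact IsGenericPoint.eq (show IsGenericPoint y (irreducibleComponent x) from h1) hg
  obtain ⟨hη₁, hη₂⟩ := hbij.mapsTo hζ
  have hη : b ζ = genericPoint X := hmax _ hη₁
  have hηc : genericPoint X ∈ 𝓘.support.compl := by rw [← hη]; exact hη₂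
  have hζU : ζ ∈ U := by
    obtain ⟨u, hu⟩ := (dvrLift_of_univSubmersive _ hU).exists_point (genericPoint X)
    have hC : IsIrreducible (irreducibleComponent (U.ι u)) := isIrreducible_irreducibleComponent
    have hu' : b (U.ι u) = genericPoint X := hu
    haveI := BlowUpLib.isIso_restrict hb
    have hinj := (b ∣_ 𝓘.support.compl).isOpenEmbedding.injective
    have e : (⟨ζ, show b ζ ∈ 𝓘.support.compl by rw [hη]; exact hηc⟩ : (b ⁻¹ᵁ 𝓘.support.compl).toScheme) =
        ⟨U.ι u, show b (U.ι u) ∈ 𝓘.support.compl by rw [hu']; exact hηc⟩ := by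
      refine hinj (Subtype.ext ?_)
      show ((b ∣_ 𝓘.support.compl) _).1 = ((b ∣_ 𝓘.support.compl) _).1
      rw [morphismRestrict_base_coe, morphismRestrict_base_coe]
      exact hη.trans hu'.symm
    rw [show ζ = U.ι u from congrArg Subtype.val e]
    exact u.2
  by_cases hne : x = ζ
  · rwa [hne]
  obtain ⟨A, i1, i2, i3, t, ht', ht⟩ := exists_spec_dvr hζx hne
  obtain ⟨w', w, hw, h', hc⟩ := dvrLift_of_univSubmersive _ hU A (t ≫ b)
  haveI : IsLocallyNoetherian ↑(pullback (t ≫ b) (U.ι ≫ b)) :=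
    LocallyOfFiniteType.isLocallyNoetherian (pullback.fst (t ≫ b) (U.ι ≫ b))
  obtain ⟨A', j1, j2, j3, t', ht₁, ht₂⟩ := exists_spec_dvr hw
    (fun e => bot_ne_closedPoint A (h'.symm.trans ((congrArg _ e.symm).trans hc)))
  let a : Spec (CommRingCat.of A') ⟶ X' := t' ≫ pullback.fst (t ≫ b) (U.ι ≫ b) ≫ t
  let c : Spec (CommRingCat.of A') ⟶ X' := t' ≫ pullback.snd (t ≫ b) (U.ι ≫ b) ≫ U.ι
  let k : Spec (CommRingCat.of (FractionRing A')) ⟶ Spec (CommRingCat.of A') :=
    Spec.map (CommRingCat.ofHom (algebraMap A' (FractionRing A')))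
  have hk : ∀ z, k z = ⟨⊥, Ideal.isPrime_bot⟩ := fun z => by
    refine PrimeSpectrum.ext ?_
    show z.asIdeal.comap (algebraMap A' (FractionRing A')) = ⊥
    rw [(Ideal.eq_bot_or_top z.asIdeal).resolve_right z.isPrime.ne_top]
    exact Ideal.comap_bot_of_injective _ (IsFractionRing.injective A' (FractionRing A'))
  haveI : IsDominant k := ⟨by
    have h1 : DenseRange (PrimeSpectrum.comap (algebraMap A' (FractionRing A'))) := by
      rw [PrimeSpectrum.denseRange_comap_iff_ker_le_nilRadical,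
        (RingHom.injective_iff_ker_eq_bot _).mp (IsFractionRing.injective A' (FractionRing A'))]
      exact bot_le
    exact h1⟩
  have hac : a = c := by
    refine ext_of_isDominant k (hmono _ _ ?_ fun z => ?_)
    · simp only [a, c, Category.assoc, pullback.condition]
    · show b ((k ≫ a) z) ∈ 𝓘.support.compl
      simp only [a, Scheme.Hom.comp_apply, hk, ht₁, h', ht', hη]
      exact hηc
  have : a (IsLocalRing.closedPoint A') = x := by
    simp only [a, Scheme.Hom.comp_apply, ht₂, hc, ht]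
  rw [← this, hac]
  simp only [c, Scheme.Hom.comp_apply]
  exact (pullback.snd (t ≫ b) (U.ι ≫ b) _).2

end Groth.Agent.HTopV
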