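import Groth.Agent.HTopV.Points
import Mathlib.AlgebraicGeometry.Sites.BigZariski

/-!
The V sheaf condition reduces to Zariski and standard V coverings.
-/

set_option autoImplicit false
set_option linter.style.haveILetI false
set_option backward.isDefEq.respectTransparency false
universe w w' v u

open CategoryTheory CategoryTheory.Limits AlgebraicGeometry Opposite

namespace Groth.Agent.HTopV

section general

variable {C : Type v} [Category.{w'} C] {J : GrothendieckTopology C} {F : Cᵒᵖ ⥤ Type w}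

/-- A sieve satisfies the sheaf condition if its pullbacks to a class of objects generating the
topology do. -/
theorem isSheafFor_of_pullback (hF : Presieve.IsSheaf J F) (P : C → Prop)
    (hP : ∀ X : C, Sieve.generate (fun Z (_ : Z ⟶ X) => P Z) ∈ J X) {X : C} (S : Sieve X)
    (h : ∀ Z (g : Z ⟶ X), P Z → Presieve.IsSheafFor F (S.pullback g).arrows) :
    Presieve.IsSheafFor F S.arrows := by
  intro x hx
  have sep : ∀ (Y : C) (a b : F.obj (op Y)),
      (∀ Z (k : Z ⟶ Y), P Z → F.map k.op a = F.map k.op b) → a = b := fun Y a b hab =>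
    (hF.isSheafFor _ (hP Y)).isSeparatedFor.ext fun Z k hk => hab Z k hk
  let y : ∀ {Z : C} (g : Z ⟶ X), Presieve.FamilyOfElements F (S.pullback g).arrows :=
    fun {Z} g W k hk => x (k ≫ g) hk
  have hy : ∀ {Z : C} (g : Z ⟶ X), (y g).Compatible := fun {Z} g W₁ W₂ W k₁ k₂ f₁ f₂ h₁ h₂ e =>
    hx k₁ k₂ h₁ h₂ (by rw [reassoc_of% e])
  let t : ∀ {Z : C} (g : Z ⟶ X), P Z → F.obj (op Z) := fun {Z} g hZ =>
    (h Z g hZ).amalgamate (y g) (hy g)
  have ht : ∀ {Z : C} (g : Z ⟶ X) (hZ : P Z) {W : C} (k : W ⟶ Z) (hk : S (k ≫ g)),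
      F.map k.op (t g hZ) = x (k ≫ g) hk := fun {Z} g hZ {W} k hk =>
    (h Z g hZ).valid_glue (hy g) k hk
  have htW : ∀ {Z W : C} (g : Z ⟶ X) (hZ : P Z) (a : W ⟶ Z) (hW : P W),
      F.map a.op (t g hZ) = t (a ≫ g) hW := fun {Z W} g hZ a hW =>
    (h W (a ≫ g) hW).isSeparatedFor.ext fun V k hk => by
      rw [ht (a ≫ g) hW k hk, ← Functor.map_comp_apply, ← op_comp,
        ht g hZ (k ≫ a) (by rw [Category.assoc]; exact hk)]
      congr 1
      exact Category.assoc _ _ _
  let R : Presieve X := fun Z _ => P Z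
  let fam : Presieve.FamilyOfElements F R := fun Z g hZ => t g hZ
  have hfam : fam.Compatible := fun Z₁ Z₂ W a b f₁ f₂ h₁ h₂ e => by
    refine sep W _ _ fun V k hV => ?_
    rw [← Functor.map_comp_apply, ← op_comp, ← Functor.map_comp_apply, ← op_comp,
      htW f₁ h₁ (k ≫ a) hV, htW f₂ h₂ (k ≫ b) hV]
    congr 1
    simp only [Category.assoc, e]
  obtain ⟨s, hs, hu⟩ := hF.isSheafFor R (hP X) fam hfam
  refine ⟨s, fun Z f hf => sep Z _ _ fun V k hV => ?_, fun s' hs' => ?_⟩
  · rw [← Functor.map_comp_apply, ← op_comp, hs (k ≫ f) hV]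
    refine Eq.trans ?_ ((hx (𝟙 V) k (S.downward_closed hf k) hf (Category.id_comp _)))
    have := ht (k ≫ f) hV (𝟙 V) (by rw [Category.id_comp]; exact S.downward_closed hf k)
    rw [op_id, F.map_id] at this ⊢
    refine Eq.trans this ?_
    congr 1
    exact Category.id_comp _
  · refine hu s' fun Z g hZ => ?_
    refine (h Z g hZ).isSeparatedFor.ext fun V k hk => ?_
    show _ = F.map k.op (t g hZ)
    rw [← Functor.map_comp_apply, ← op_comp, hs' (k ≫ g) hk, ht g hZ k hk]

end general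

variable {F : Scheme.{u}ᵒᵖ ⥤ Type w}

theorem generate_affine_mem (X : Scheme.{u}) :
    Sieve.generate (fun Z (_ : Z ⟶ X) => IsAffine Z) ∈ Scheme.zariskiTopology X := by
  refine GrothendieckTopology.superset_covering _ ?_ X.affineCover.mem_grothendieckTopology
  rw [Sieve.generate_le_iff]
  rintro Y f ⟨i⟩
  exact Sieve.le_generate (fun Z (_ : Z ⟶ X) => IsAffine Z) _ _
    (show IsAffine (X.affineCover.X i) by infer_instance)

theorem isVCover_of_isStandardV {T : Scheme.{u}} {E : PreZeroHypercover.{v} T}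
    (hE : HTop.IsStandardV E) : HTop.IsVCover E := fun U => by
  haveI : IsAffine (U : T.Opens) := U.2
  refine exists_small (isStandardV_pullback₁ (U : T.Opens).ι hE) fun j => ⟨j, pullback.snd _ _, ?_⟩
  exact pullback.condition.symm

theorem isVCover_of_isOpenImmersion {T : Scheme.{u}} (E : PreZeroHypercover.{v} T)
    [∀ i, IsOpenImmersion (E.f i)] (hE : ∀ x : T, ∃ i, x ∈ Set.range (E.f i)) :
    HTop.IsVCover E := fun U => by
  haveI : IsAffine (U : T.Opens) := U.2
  refine exists_isStandardV_of_local (U : T.Opens).ι E fun x => ?_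
  obtain ⟨i, hi⟩ := hE x.1
  obtain ⟨_, ⟨W, hW, rfl⟩, hxW, hWi⟩ :=
    (U : T.Opens).toScheme.isBasis_affineOpens.exists_subset_of_mem_open
      (show x ∈ (U : T.Opens).ι ⁻¹ᵁ (E.f i).opensRange from hi)
      ((U : T.Opens).ι ⁻¹ᵁ (E.f i).opensRange).2
  change (U : T.Opens).toScheme.Opens at W
  haveI : IsAffine W := hW
  refine ⟨W, hW, hxW, PreZeroHypercover.singleton (𝟙 _), ⟨hW, inferInstanceAs (Finite PUnit),
    fun _ => hW, ?_⟩, fun _ => ⟨i, IsOpenImmersion.lift (E.f i) (W.ι ≫ (U : T.Opens).ι) ?_, ?_⟩⟩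
  · intro V _ _ t
    exact ⟨V, inferInstance, inferInstance, 𝟙 V, isExtVal_id V, PUnit.unit, t,
      by rw [Spec.map_id, Category.id_comp]; exact Category.comp_id t⟩
  · rintro - ⟨y, rfl⟩
    exact hWi y.2
  · rw [IsOpenImmersion.lift_fac]
    exact (Category.id_comp _).symm

theorem isSheaf_zariski_of_isVSheaf (hF : HTop.IsVSheaf F) :
    Presieve.IsSheaf Scheme.zariskiTopology F := by
  rw [Precoverage.isSheaf_toGrothendieck_iff_of_isStableUnderBaseChange]
  intro X R hR
  obtain ⟨𝒰, rfl⟩ := Precoverage.mem_iff_exists_zeroHypercover.mp hR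
  refine hF _ ((HTop.presieve₀_mem_vPrecoverage_iff _).mpr ?_)
  haveI : ∀ i, IsOpenImmersion (𝒰.f i) := fun i => Scheme.Cover.map_prop 𝒰 i
  exact isVCover_of_isOpenImmersion _ fun x => Scheme.Cover.exists_eq 𝒰 x

theorem isSheafFor_of_isStandardV (h₁ : Presieve.IsSheaf Scheme.zariskiTopology F)
    (h₂ : ∀ (T : Scheme.{u}) (E : PreZeroHypercover.{u} T), HTop.IsStandardV E →
      Presieve.IsSheafFor F E.presieve₀)
    {T : Scheme.{u}} {E : PreZeroHypercover.{u} T} (hE : HTop.IsStandardV E) {Y : Scheme.{u}}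
    (g : Y ⟶ T) : Presieve.IsSheafFor F ((Sieve.generate E.presieve₀).pullback g).arrows := by
  refine isSheafFor_of_pullback h₁ (fun Z => IsAffine Z) generate_affine_mem _ fun Z k hZ => ?_
  haveI := hZ
  have e : ((Sieve.generate E.presieve₀).pullback g).pullback k =
      Sieve.generate (E.pullback₁ (k ≫ g)).presieve₀ := by
    rw [← Sieve.pullback_comp]
    refine Sieve.ext fun W a => ⟨?_, ?_⟩
    · rintro ⟨_, b, _, ⟨j⟩, hb⟩
      exact ⟨_, pullback.lift a b hb.symm, _, ⟨j⟩, pullback.lift_fst _ _ _⟩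
    · rintro ⟨_, b, _, ⟨j⟩, rfl⟩
      refine ⟨_, b ≫ pullback.snd (k ≫ g) (E.f j), _, ⟨j⟩, ?_⟩
      rw [Category.assoc, ← pullback.condition]
      exact (Category.assoc _ _ _).symm
  rw [e]
  exact (Presieve.isSheafFor_iff_generate _).mp (h₂ Z _ (isStandardV_pullback₁ _ hE))

theorem isVSheaf_of_standardV (h₁ : Presieve.IsSheaf Scheme.zariskiTopology F)
    (h₂ : ∀ (T : Scheme.{u}) (E : PreZeroHypercover.{u} T), HTop.IsStandardV E →
      Presieve.IsSheafFor F E.presieve₀) : HTop.IsVSheaf F := by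
  intro X R hR
  obtain ⟨E, hE, rfl⟩ := PreZeroHypercoverFamily.mem_precoverage_iff.mp hR
  rw [Presieve.isSheafFor_iff_generate]
  refine isSheafFor_of_pullback h₁ (fun Z => IsAffine Z) generate_affine_mem _ fun Z g hZ => ?_
  haveI := hZ
  obtain ⟨G, hG, hGE⟩ := exists_isStandardV_refining g (E := E) hE
  let G' : PreZeroHypercover.{u} Z := G.reindex Equiv.ulift.{u}
  have hG' : HTop.IsStandardV G' := isStandardV_reindex hG _
  refine Presieve.isSheafFor_subsieve F (S := Sieve.generate G'.presieve₀) ?_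
    fun Y f => isSheafFor_of_isStandardV h₁ h₂ hG' f
  rintro W a ⟨_, b, _, ⟨j⟩, rfl⟩
  obtain ⟨i, c, hc⟩ := hGE j.down
  refine ⟨_, b ≫ c, _, ⟨i⟩, ?_⟩
  rw [Category.assoc, hc]
  exact (Category.assoc _ _ _).symm

theorem isVSheaf_iff : HTop.IsVSheaf F ↔ (Presieve.IsSheaf Scheme.zariskiTopology F ∧
    ∀ (T : Scheme.{u}) (E : PreZeroHypercover.{u} T), HTop.IsStandardV E →
      Presieve.IsSheafFor F E.presieve₀) :=
  ⟨fun h => ⟨isSheaf_zariski_of_isVSheaf h, fun _ E hE =>
    h _ ((HTop.presieve₀_mem_vPrecoverage_iff E).mpr (isVCover_of_isStandardV hE))⟩,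
   fun h => isVSheaf_of_standardV h.1 h.2⟩

theorem isStandardV_sigmaDesc {T : Scheme.{u}} {E : PreZeroHypercover.{u} T}
    (hE : HTop.IsStandardV E) :
    HTop.IsStandardV (PreZeroHypercover.singleton.{u} (Sigma.desc E.f)) where
  isAffine := hE.isAffine
  finite_index := inferInstanceAs (Finite PUnit)
  isAffine_obj _ := by
    haveI := hE.finite_index
    haveI := hE.isAffine_obj
    exact (inferInstance : IsAffine (∐ E.X))
  lift := fun V _ _ t => by
    obtain ⟨W, i1, i2, φ, hφ, j, g', hg'⟩ := hE.lift V t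
    refine ⟨W, i1, i2, φ, hφ, PUnit.unit, g' ≫ Sigma.ι E.X j, ?_⟩
    show (g' ≫ Sigma.ι E.X j) ≫ Sigma.desc E.f = _
    rw [Category.assoc, Sigma.ι_desc, hg']

theorem isVSheaf_iff_singleton : HTop.IsVSheaf F ↔ (Presieve.IsSheaf Scheme.zariskiTopology F ∧
    ∀ (U V : Scheme.{u}) (f : V ⟶ U), HTop.IsStandardV (PreZeroHypercover.singleton.{v} f) →
      Presieve.IsSheafFor F (Presieve.singleton f)) := by
  rw [isVSheaf_iff]
  refine and_congr_right fun h₁ => ⟨fun h U V f hf => ?_, fun h T E hE => ?_⟩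
  · have := h U _ (isStandardV_reindex hf (Equiv.punitEquivPUnit.{u + 1, v + 1}))
    rwa [PreZeroHypercover.presieve₀_reindex, PreZeroHypercover.presieve₀_singleton] at this
  · haveI := hE.finite_index
    have hs := isStandardV_reindex (isStandardV_sigmaDesc hE)
      (Equiv.punitEquivPUnit.{v + 1, u + 1})
    have h' := h T _ (Sigma.desc E.f) ⟨hs.1, hs.2, hs.3, hs.4⟩
    haveI : PreservesLimitsOfShape (Discrete (E.I₀ × E.I₀)) F :=
      preservesLimitsOfShape_discrete_of_isSheaf_zariskiTopology h₁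
    haveI : PreservesLimitsOfShape (Discrete E.I₀) F :=
      preservesLimitsOfShape_discrete_of_isSheaf_zariskiTopology h₁
    exact (Presieve.isSheafFor_sigmaDesc_iff E.f (coproductIsCoproduct _)
      (FinitaryExtensive.isVanKampen_finiteCoproducts (coproductIsCoproduct _)).isUniversal F).mp h'

end Groth.Agent.HTopV
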