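import Groth.Agent.HTopV.PhExtend
import Groth.Agent.HTopV.Submersive
import Groth.Prelude.Def_MoreMor

/-!
ph and h sheaves are insensitive to thickenings.
-/

set_option autoImplicit false
set_option linter.style.haveILetI false
set_option backward.isDefEq.respectTransparency false
universe w u

open CategoryTheory CategoryTheory.Limits AlgebraicGeometry Opposite

namespace Groth.Agent.HTopV

theorem isPhCover_of_proper_surjective {X Y : Scheme.{u}} (f : Y ⟶ X) [IsProper f] [Surjective f] :
    HTop.IsPhCover (PreZeroHypercover.singleton.{w} f) := by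
  refine ⟨fun _ => (inferInstance : LocallyOfFiniteType f), fun U => ?_⟩
  haveI : IsAffine (U : X.Opens) := U.2
  obtain ⟨F, hF, hFE⟩ := exists_isStandardPh_of_locRef (pullback.fst (U : X.Opens).ι f)
    (E := (PreZeroHypercover.singleton.{w} f).pullback₁ (U : X.Opens).ι) fun y =>
      ⟨_, 𝟙 _, inferInstance, ⟨y, rfl⟩, PUnit.unit, 𝟙 _, rfl⟩
  refine ⟨F, hF, fun j => ?_⟩
  obtain ⟨i, a, ha⟩ := hFE j
  change a ≫ pullback.fst (U : X.Opens).ι f = F.f j ≫ 𝟙 _ at ha
  exact ⟨i, a ≫ pullback.snd (U : X.Opens).ι f, by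
    show (a ≫ pullback.snd _ f) ≫ f = _
    rw [Category.assoc, ← pullback.condition, reassoc_of% ha]⟩

theorem bijective_map_of_mono {S : Scheme.{u}} {J : GrothendieckTopology (Over S)}
    {P : (Over S)ᵒᵖ ⥤ Type w} (hP : Presieve.IsSheaf J P) {X X' : Over S} (f : X ⟶ X') [Mono f]
    (hf : Sieve.generate (Presieve.singleton f) ∈ J X') : Function.Bijective (P.map f.op) := by
  have h := Presieve.isSheafFor_singleton.mp (hP.isSheafFor _ hf)
  refine (Function.bijective_iff_existsUnique _).mpr fun x => h x fun {Z} p₁ p₂ e => ?_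
  rw [(cancel_mono f).mp e]

theorem generate_singleton_mem_over {S : Scheme.{u}} {K : Precoverage Scheme.{u}} {X X' : Over S}
    (f : X ⟶ X') (hf : (PreZeroHypercover.singleton.{u} f.left).presieve₀ ∈ K X'.left) :
    Sieve.generate (Presieve.singleton f) ∈ (K.toGrothendieck.over S) X' := by
  rw [GrothendieckTopology.mem_over_iff]
  refine GrothendieckTopology.superset_covering _ ?_ (Precoverage.generate_mem_toGrothendieck hf)
  rw [PreZeroHypercover.presieve₀_singleton, Sieve.generate_le_iff]
  rintro Z g ⟨⟩
  rw [Sieve.overEquiv_iff]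
  refine ⟨X, Over.homMk (𝟙 _) ?_, f, ⟨⟩, ?_⟩
  · simp
  · ext; simp

theorem bijective_map_ph {S : Scheme.{u}} (F : HTop.ShPh S) {X X' : Over S} (f : X ⟶ X')
    (hf : MoreMor.IsThickening f.left) : Function.Bijective (F.obj.map f.op) := by
  haveI := hf.1
  haveI := hf.2
  haveI : Mono f := (Over.forget S).mono_of_mono_map (inferInstanceAs (Mono f.left))
  exact bijective_map_of_mono ((isSheaf_iff_isSheaf_of_type _ _).mp F.property) f
    (generate_singleton_mem_over f
      ((HTop.presieve₀_mem_phPrecoverage_iff _).mpr (isPhCover_of_proper_surjective f.left)))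

theorem bijective_map_h {S : Scheme.{u}} (F : HTop.ShH S) {X X' : Over S} (f : X ⟶ X')
    (hf : MoreMor.IsThickening f.left) [LocallyOfFinitePresentation f.left] :
    Function.Bijective (F.obj.map f.op) := by
  haveI := hf.1
  haveI := hf.2
  haveI : Mono f := (Over.forget S).mono_of_mono_map (inferInstanceAs (Mono f.left))
  exact bijective_map_of_mono ((isSheaf_iff_isSheaf_of_type _ _).mp F.property) f
    (generate_singleton_mem_over f
      ((HTop.presieve₀_mem_hPrecoverage_iff _).mpr (isHCover_of_proper_surjective f.left)))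

end Groth.Agent.HTopV
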