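import Groth.Agent.AlmostBlow.Basic

/-!
Closed subschemes of almost blow-up squares containing the strict transform.
-/

set_option autoImplicit false
set_option linter.style.haveILetI false
set_option backward.isDefEq.respectTransparency false
universe u

open CategoryTheory CategoryTheory.Limits AlgebraicGeometry

namespace Groth.Agent.HTopV

theorem ker_le_iff_isAlmostBlowUpSquare {E Z X' X W EW : Scheme.{u}} {e : E ⟶ X'} {π : E ⟶ Z}
    {b : X' ⟶ X} {i : Z ⟶ X} (h : HTop.IsAlmostBlowUpSquare e π b i) (w : W ⟶ X')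
    [IsClosedImmersion w] [LocallyOfFinitePresentation w] {eW : EW ⟶ W} {gE : EW ⟶ E}
    (hEW : IsPullback gE eW e w) :
    w.ker ≤ HTop.supportedOn (i.ker.comap b) ↔ HTop.IsAlmostBlowUpSquare eW (gE ≫ π) (w ≫ b) i := by
  let I := i.ker
  let ι := (HTop.supportedOn (I.comap b)).subschemeι
  let ιW := (HTop.supportedOn (I.comap (w ≫ b))).subschemeι
  have hlp : HTop.IsLocPrincipal (I.comap (w ≫ b)) := by
    rw [Scheme.IdealSheafData.comap_comp]
    exact AlmostBlow.isLocPrincipal_comap h.locPrincipal w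
  have hcW : BlowUp.IsEffCartierIdeal (I.comap (ιW ≫ w ≫ b)) := by
    exact (Scheme.IdealSheafData.comap_comp I ιW (w ≫ b)).symm ▸ AlmostBlow.cartier_comap_subschemeι hlp
  obtain ⟨g, hg⟩ := AlmostBlow.exists_lift (𝓘 := I.comap b) (ιW ≫ w) (by
    rw [← Scheme.IdealSheafData.comap_comp, Category.assoc]; exact hcW)
  have hgb : g ≫ ι ≫ b = ιW ≫ w ≫ b := by rw [reassoc_of% hg]
  constructor
  · intro hle
    let k : _ ⟶ W := IsClosedImmersion.lift w ι (by
      rw [Scheme.IdealSheafData.ker_subschemeι]; exact hle)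
    have hk : k ≫ w = ι := IsClosedImmersion.lift_fac _ _ _
    obtain ⟨l, hl⟩ := AlmostBlow.exists_lift (𝓘 := I.comap (w ≫ b)) k (by
      rw [← Scheme.IdealSheafData.comap_comp, reassoc_of% hk]; exact h.isBlowUp.1)
    have hgl : g ≫ l = 𝟙 _ := by
      rw [← cancel_mono ιW, ← cancel_mono w, Category.assoc, Category.assoc, reassoc_of% hl, hk,
        Category.id_comp, hg]
    refine ⟨h.isClosedImmersion, h.finitePresentation_base, hEW.flip.paste_vert h.isPullback, hlp,
      haveI := h.isProper; inferInstance, haveI := h.finitePresentation; inferInstance, hcW,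
      fun Y f hf => ?_⟩
    obtain ⟨m, hm, hu⟩ := h.isBlowUp.2 Y f hf
    refine ⟨m ≫ l, ?_, fun m' hm' => ?_⟩
    · show (m ≫ l) ≫ ιW ≫ w ≫ b = f
      rw [Category.assoc, reassoc_of% hl, reassoc_of% hk]
      exact hm
    · have : m' ≫ g = m := hu _ (by
        show (m' ≫ g) ≫ ι ≫ b = f
        rw [Category.assoc, hgb]
        exact hm')
      rw [← this, Category.assoc, hgl, Category.comp_id]
  · intro hW
    obtain ⟨l, hl, -⟩ := hW.isBlowUp.2 _ (ι ≫ b) h.isBlowUp.1
    have hlg : l ≫ g = 𝟙 _ := by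
      obtain ⟨m, -, hu⟩ := h.isBlowUp.2 _ (ι ≫ b) h.isBlowUp.1
      refine (hu _ ?_).trans (hu _ (Category.id_comp _)).symm
      show (l ≫ g) ≫ ι ≫ b = ι ≫ b
      rw [Category.assoc, hgb]
      exact hl
    have : (l ≫ ιW) ≫ w = ι := by rw [Category.assoc, ← hg, reassoc_of% hlg]
    have h2 := Scheme.Hom.le_ker_comp (l ≫ ιW) w
    rw [this, Scheme.IdealSheafData.ker_subschemeι] at h2
    exact h2

end Groth.Agent.HTopV
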