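import Groth.Agent.HTopV.PhExtend
import Groth.Agent.HTopV.Sheaf

/-!
The ph sheaf condition from the Zariski one and proper surjective morphisms.
-/

set_option autoImplicit false
set_option linter.style.haveILetI false
set_option backward.isDefEq.respectTransparency false
universe w w' v u

open CategoryTheory CategoryTheory.Limits AlgebraicGeometry Opposite

namespace Groth.Agent.HTopV

variable {F : Scheme.{u}ᵒᵖ ⥤ Type w}

theorem isSheafFor_of_isStandardPh (h₁ : Presieve.IsSheaf Scheme.zariskiTopology F)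
    (h₂ : ∀ (U V : Scheme.{u}) (f : V ⟶ U), IsProper f → Surjective f →
      Presieve.IsSheafFor F (Presieve.singleton f))
    {T : Scheme.{u}} {E : PreZeroHypercover.{v} T} (hE : HTop.IsStandardPh E) {Y : Scheme.{u}}
    (g : Y ⟶ T) : Presieve.IsSheafFor F ((Sieve.generate E.presieve₀).pullback g).arrows := by
  obtain ⟨U, f, ι, hp, hs, ho, hf, hc⟩ := hE.exists_proper
  haveI := hp; haveI := hs
  have e : ∀ {W : Scheme.{u}} (a : W ⟶ Y),
      (Sieve.generate (Presieve.singleton (pullback.fst g f))).pullback a =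
        Sieve.generate (Presieve.singleton (pullback.fst a (pullback.fst g f))) := fun {W} a => by
    refine Sieve.ext fun Z b => ⟨?_, ?_⟩
    · rintro ⟨_, c, _, ⟨⟩, hc⟩
      exact ⟨_, pullback.lift b c hc.symm, _, ⟨⟩, pullback.lift_fst _ _ _⟩
    · rintro ⟨_, c, _, ⟨⟩, rfl⟩
      refine ⟨_, c ≫ pullback.snd a (pullback.fst g f), _, ⟨⟩, ?_⟩
      rw [Category.assoc, ← pullback.condition]
      exact (Category.assoc _ _ _).symm
  refine Presieve.isSheafFor_trans F (Sieve.generate (Presieve.singleton (pullback.fst g f))) _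
    ((Presieve.isSheafFor_iff_generate _).mp (h₂ _ _ _ inferInstance inferInstance))
    (fun W a _ => ?_) ?_
  · rw [e]
    exact ((Presieve.isSheafFor_iff_generate _).mp
      (h₂ _ _ _ inferInstance inferInstance)).isSeparatedFor
  · rintro W a ⟨_, c, _, ⟨⟩, rfl⟩
    refine h₁.isSheafFor _ ?_
    rw [Sieve.generate_sieve, ← Sieve.pullback_comp]
    haveI := ho
    choose j x hx using hc
    let 𝒰 : U.OpenCover := Scheme.Cover.mkOfCovers U (fun z : U => E.X (j z)) (fun z => ι (j z))
      (fun z => ⟨z, x z, hx z⟩) (fun z => ho _)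
    refine GrothendieckTopology.superset_covering _ ?_
      (GrothendieckTopology.pullback_stable _ (c ≫ pullback.snd g f) 𝒰.mem_grothendieckTopology)
    rintro Z b ⟨_, d, _, ⟨z⟩, hd⟩
    refine ⟨_, d, _, ⟨j z⟩, ?_⟩
    change d ≫ ι (j z) = b ≫ c ≫ pullback.snd g f at hd
    show d ≫ E.f (j z) = (b ≫ c ≫ pullback.fst g f) ≫ g
    rw [← hf (j z), reassoc_of% hd, Category.assoc, Category.assoc, pullback.condition]

theorem isPhSheaf_of_proper (h₁ : Presieve.IsSheaf Scheme.zariskiTopology F)
    (h₂ : ∀ (U V : Scheme.{u}) (f : V ⟶ U), IsProper f → Surjective f →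
      Presieve.IsSheafFor F (Presieve.singleton f)) : HTop.IsPhSheaf F := by
  intro X R hR
  obtain ⟨E, hE, rfl⟩ := PreZeroHypercoverFamily.mem_precoverage_iff.mp hR
  rw [Presieve.isSheafFor_iff_generate]
  refine isSheafFor_of_pullback h₁ (fun Z => IsAffine Z) generate_affine_mem _ fun Z g hZ => ?_
  haveI := hZ
  obtain ⟨G, hG, hGE⟩ := exists_isStandardPh_refining g (E := E) hE
  refine Presieve.isSheafFor_subsieve F (S := Sieve.generate G.presieve₀) ?_
    fun Y f => isSheafFor_of_isStandardPh h₁ h₂ hG f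
  rintro W a ⟨_, b, _, ⟨j⟩, rfl⟩
  obtain ⟨i, c, hc⟩ := hGE j
  refine ⟨_, b ≫ c, _, ⟨i⟩, ?_⟩
  rw [Category.assoc, hc]
  exact (Category.assoc _ _ _).symm

end Groth.Agent.HTopV
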