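import Groth.Agent.HTopV.Thick
import Groth.Agent.AlmostBlow.Basic
import Groth.Agent.S4599
import Groth.Prelude.Def_HTop3

/-!
h sheaves turn abstract blow-up squares into cartesian squares of sections.
-/

set_option autoImplicit false
set_option linter.style.haveILetI false
set_option backward.isDefEq.respectTransparency false
universe w u

open CategoryTheory CategoryTheory.Limits AlgebraicGeometry Opposite

namespace Groth.Agent.HTopV

theorem isPhCover_of_isProper_family {T : Scheme.{u}} (E : PreZeroHypercover.{u} T) [Finite E.I₀]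
    [∀ i, IsProper (E.f i)] (hE : ∀ x : T, ∃ i, x ∈ Set.range (E.f i)) : HTop.IsPhCover E := by
  refine ⟨fun i => inferInstance, fun U => ?_⟩
  haveI : IsAffine (U : T.Opens) := U.2
  let E' := E.pullback₁ (U : T.Opens).ι
  obtain ⟨Z, q, hq, hz, hi⟩ := exists_proper_union E.I₀ (fun i => pullback (U : T.Opens).ι (E.f i))
    (fun i => pullback.fst (U : T.Opens).ι (E.f i)) (fun i => inferInstance)
  haveI := hq
  haveI : Surjective q := by
    refine ⟨fun x => ?_⟩
    obtain ⟨i, y, hy⟩ := hE x.1
    obtain ⟨z, hz', -⟩ := Scheme.Pullback.exists_preimage_pullback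
      (f := (U : T.Opens).ι) (g := E.f i) x y hy.symm
    obtain ⟨j, hj⟩ := hi i
    exact ⟨j z, by rw [← Scheme.Hom.comp_apply, hj, hz']⟩
  obtain ⟨F, hF, hFE⟩ := exists_isStandardPh_of_locRef q (E := E') fun z => by
    obtain ⟨i, j, hj, hjq, hzj⟩ := hz z
    exact ⟨_, j, hj, hzj, i, 𝟙 _, by rw [Category.id_comp]; exact hjq.symm⟩
  refine ⟨F, hF, fun k => ?_⟩
  obtain ⟨i, a, ha⟩ := hFE k
  change a ≫ pullback.fst (U : T.Opens).ι (E.f i) = F.f k ≫ 𝟙 _ at ha
  exact ⟨i, a ≫ pullback.snd (U : T.Opens).ι (E.f i), by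
    rw [Category.assoc, ← pullback.condition, reassoc_of% ha]⟩

theorem isVCover_of_isPhCover {T : Scheme.{u}} {E : PreZeroHypercover.{w} T} (hE : HTop.IsPhCover E) :
    HTop.IsVCover E := fun U => by
  obtain ⟨F, hF, hFE⟩ := hE.2 U
  exact ⟨F, ⟨hF.isAffine, hF.finite_index, hF.isAffine_obj, hasValLift_of_isStandardPh hF⟩, hFE⟩

theorem isHCover_of_isProper_family {T : Scheme.{u}} (E : PreZeroHypercover.{u} T) [Finite E.I₀]
    [∀ i, IsProper (E.f i)] (hfp : ∀ i, LocallyOfFinitePresentation (E.f i))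
    (hE : ∀ x : T, ∃ i, x ∈ Set.range (E.f i)) : HTop.IsHCover E :=
  ⟨hfp, isVCover_of_isPhCover (isPhCover_of_isProper_family E hE)⟩

theorem generate_presieve₀_mem_over {S : Scheme.{u}} {K : Precoverage Scheme.{u}} {X : Over S}
    (E : PreZeroHypercover.{u} X)
    (hE : ({ I₀ := E.I₀, X := fun i => (E.X i).left, f := fun i => (E.f i).left } :
      PreZeroHypercover.{u} X.left).presieve₀ ∈ K X.left) :
    Sieve.generate E.presieve₀ ∈ (K.toGrothendieck.over S) X := by
  rw [GrothendieckTopology.mem_over_iff]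
  refine GrothendieckTopology.superset_covering _ ?_ (Precoverage.generate_mem_toGrothendieck hE)
  rw [Sieve.generate_le_iff]
  rintro Z g ⟨i⟩
  rw [Sieve.overEquiv_iff]
  refine ⟨E.X i, Over.homMk (𝟙 _) ?_, E.f i, ⟨i⟩, ?_⟩
  · simp
  · ext; simp

variable {S : Scheme.{u}}

/-- The family with two members. -/
def pairFam {Z X' X : Over S} (i : Z ⟶ X) (b : X' ⟶ X) : PreZeroHypercover.{u} X where
  I₀ := ULift.{u} Bool
  X k := Bool.rec Z X' k.down
  f k := match k with
    | ⟨false⟩ => i
    | ⟨true⟩ => b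

theorem isSheafFor_pairFam (F : HTop.ShH S) {Z X' X : Over S} (i : Z ⟶ X) (b : X' ⟶ X)
    [IsProper i.left] [LocallyOfFinitePresentation i.left] [IsProper b.left]
    [LocallyOfFinitePresentation b.left]
    (hsurj : ∀ x : X.left, x ∈ Set.range i.left ∨ x ∈ Set.range b.left) :
    Presieve.IsSheafFor F.obj (pairFam i b).presieve₀ := by
  rw [Presieve.isSheafFor_iff_generate]
  refine ((isSheaf_iff_isSheaf_of_type _ _).mp F.property) _ (generate_presieve₀_mem_over _
    ((HTop.presieve₀_mem_hPrecoverage_iff _).mpr ?_))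
  let E' : PreZeroHypercover.{u} X.left :=
    { I₀ := (pairFam i b).I₀, X := fun k => ((pairFam i b).X k).left, f := fun k => ((pairFam i b).f k).left }
  haveI : Finite E'.I₀ := inferInstanceAs (Finite (ULift.{u} Bool))
  haveI : ∀ k, IsProper (E'.f k) := by
    rintro ⟨_ | _⟩
    · exact ‹IsProper i.left›
    · exact ‹IsProper b.left›
  refine isHCover_of_isProper_family E' ?_ fun x => ?_
  · rintro ⟨_ | _⟩
    · exact ‹LocallyOfFinitePresentation i.left›
    · exact ‹LocallyOfFinitePresentation b.left›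
  · rcases hsurj x with h | h
    · exact ⟨⟨false⟩, h⟩
    · exact ⟨⟨true⟩, h⟩

/-- The descent statement for squares which are isomorphisms away from a closed subscheme. -/
theorem existsUnique_of_square (F : HTop.ShH S) {E Z X' X : Over S} (e : E ⟶ X') (π : E ⟶ Z)
    (b : X' ⟶ X) (i : Z ⟶ X) [IsClosedImmersion i.left] [LocallyOfFinitePresentation i.left]
    [IsProper b.left] [LocallyOfFinitePresentation b.left]
    (hE : IsPullback e.left π.left b.left i.left)
    (hsurj : ∀ x : X.left, x ∈ Set.range i.left ∨ x ∈ Set.range b.left)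
    (hmono : ∀ {T : Scheme.{u}} (a c : T ⟶ X'.left), a ≫ b.left = c ≫ b.left →
      (∀ z, b.left (a z) ∉ Set.range i.left) → a = c)
    (t : F.obj.obj (op Z)) (s' : F.obj.obj (op X')) (hts : F.obj.map π.op t = F.obj.map e.op s') :
    ∃! s : F.obj.obj (op X), F.obj.map i.op s = t ∧ F.obj.map b.op s = s' := by
  haveI : Mono i := (Over.forget S).mono_of_mono_map (inferInstanceAs (Mono i.left))
  let P : Over S := Over.mk (pullback.fst b.left b.left ≫ X'.hom)
  let p₁ : P ⟶ X' := Over.homMk (pullback.fst b.left b.left) rfl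
  let p₂ : P ⟶ X' := Over.homMk (pullback.snd b.left b.left) (by
    show pullback.snd b.left b.left ≫ X'.hom = pullback.fst b.left b.left ≫ X'.hom
    rw [← Over.w b, ← pullback.condition_assoc])
  let Δ : X' ⟶ P := Over.homMk (pullback.diagonal b.left) (by
    show pullback.diagonal b.left ≫ pullback.fst b.left b.left ≫ X'.hom = _
    rw [pullback.diagonal_fst_assoc])
  let W : Over S := Over.mk (pullback.fst (pullback.fst b.left b.left ≫ b.left) i.left ≫ P.hom)
  let m : W ⟶ P := Over.homMk (pullback.fst (pullback.fst b.left b.left ≫ b.left) i.left) rfl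
  let z : W.left ⟶ Z.left := pullback.snd (pullback.fst b.left b.left ≫ b.left) i.left
  have hm : m.left ≫ pullback.fst b.left b.left ≫ b.left = z ≫ i.left := pullback.condition
  have hlift : ∀ {T : Over S} (a : T ⟶ X') (c : T ⟶ Z), a ≫ b = c ≫ i →
      ∃ l : T ⟶ E, l ≫ e = a ∧ l ≫ π = c := fun {T} a c h => by
    have h' := congrArg CommaMorphism.left h
    simp only [Over.comp_left] at h'
    refine ⟨Over.homMk (hE.lift a.left c.left h') ?_, ?_, ?_⟩
    · rw [← Over.w e, hE.lift_fst_assoc, Over.w a]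
    · ext; exact hE.lift_fst _ _ _
    · ext; exact hE.lift_snd _ _ _
  have hsep : F.obj.map p₁.op s' = F.obj.map p₂.op s' := by
    haveI : IsProper Δ.left := inferInstanceAs (IsProper (pullback.diagonal b.left))
    haveI : LocallyOfFinitePresentation Δ.left := Groth.Agent.S4599.result b.left
    haveI : IsProper m.left :=
      inferInstanceAs (IsProper (pullback.fst (pullback.fst b.left b.left ≫ b.left) i.left))
    haveI : LocallyOfFinitePresentation m.left :=
      MorphismProperty.pullback_fst _ _ (inferInstanceAs (LocallyOfFinitePresentation i.left))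
    refine (isSheafFor_pairFam F m Δ fun p => ?_).isSeparatedFor.ext ?_
    · by_cases hp : (pullback.fst b.left b.left ≫ b.left) p ∈ Set.range i.left
      · left
        obtain ⟨v, hv⟩ := hp
        obtain ⟨w, hw, -⟩ := Scheme.Pullback.exists_preimage_pullback
          (f := pullback.fst b.left b.left ≫ b.left) (g := i.left) p v hv.symm
        exact ⟨w, hw⟩
      · right
        let O : (pullback b.left b.left).Opens := (pullback.fst b.left b.left ≫ b.left) ⁻¹ᵁ
          ⟨(Set.range i.left)ᶜ, i.left.isClosedEmbedding.isClosed_range.isOpen_compl⟩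
        have heq : O.ι ≫ pullback.fst b.left b.left = O.ι ≫ pullback.snd b.left b.left := by
          refine hmono _ _ (by simp [pullback.condition]) fun q => ?_
          exact q.2
        have : O.ι = (O.ι ≫ pullback.fst b.left b.left) ≫ pullback.diagonal b.left := by
          ext
          · simp
          · simp [heq]
        refine ⟨(O.ι ≫ pullback.fst b.left b.left) ⟨p, hp⟩, ?_⟩
        show (pullback.diagonal b.left) _ = p
        rw [← Scheme.Hom.comp_apply, ← this]
        rfl
    · rintro Y g ⟨⟨_ | _⟩⟩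
      · show F.obj.map m.op _ = F.obj.map m.op _
        have h₁ : (m ≫ p₁) ≫ b = Over.homMk z (by
            show z ≫ Z.hom = _
            rw [← Over.w i, ← Category.assoc, ← hm, Category.assoc, Category.assoc, Over.w b]
            rfl) ≫ i := by
          ext
          simpa [p₁] using hm
        have h₂ : (m ≫ p₂) ≫ b = (m ≫ p₁) ≫ b := by
          ext
          simp [p₁, p₂, pullback.condition]
        obtain ⟨l₁, hl₁, hl₁'⟩ := hlift _ _ h₁
        obtain ⟨l₂, hl₂, hl₂'⟩ := hlift _ _ (h₂.trans h₁)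
        rw [← Functor.map_comp_apply, ← op_comp, ← Functor.map_comp_apply, ← op_comp, ← hl₁, ← hl₂,
          op_comp, op_comp, Functor.map_comp_apply, Functor.map_comp_apply, ← hts,
          ← Functor.map_comp_apply, ← Functor.map_comp_apply, ← op_comp, ← op_comp, hl₁', hl₂']
      · show F.obj.map Δ.op _ = F.obj.map Δ.op _
        rw [← Functor.map_comp_apply, ← op_comp, ← Functor.map_comp_apply, ← op_comp,
          show Δ ≫ p₁ = Δ ≫ p₂ from by ext; simp [Δ, p₁, p₂]]
  have hsh := (Presieve.isSheafFor_arrows_iff _ _).mp (isSheafFor_pairFam F i b hsurj)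
  let x : ∀ k : (pairFam i b).I₀, F.obj.obj (op ((pairFam i b).X k)) := fun k => match k with
    | ⟨false⟩ => t
    | ⟨true⟩ => s'
  have hcompat : ∀ {T : Over S} (a : T ⟶ X') (c : T ⟶ Z), a ≫ b = c ≫ i →
      F.obj.map c.op t = F.obj.map a.op s' := fun {T} a c h => by
    obtain ⟨l, hl, hl'⟩ := hlift a c h
    rw [← hl, ← hl', op_comp, op_comp, Functor.map_comp_apply, Functor.map_comp_apply, hts]
  have hcompat' : ∀ {T : Over S} (g₁ g₂ : T ⟶ X'), g₁ ≫ b = g₂ ≫ b →
      F.obj.map g₁.op s' = F.obj.map g₂.op s' := fun {T} g₁ g₂ h => by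
    have h' := congrArg CommaMorphism.left h
    simp only [Over.comp_left] at h'
    let k : T ⟶ P := Over.homMk (pullback.lift g₁.left g₂.left h') (by
      show pullback.lift g₁.left g₂.left h' ≫ pullback.fst b.left b.left ≫ X'.hom = T.hom
      rw [pullback.lift_fst_assoc, Over.w g₁])
    rw [show g₁ = k ≫ p₁ from by ext; exact (pullback.lift_fst _ _ _).symm,
      show g₂ = k ≫ p₂ from by ext; exact (pullback.lift_snd _ _ _).symm,
      op_comp, op_comp, Functor.map_comp_apply, Functor.map_comp_apply, hsep]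
  have hx : Presieve.Arrows.Compatible F.obj (pairFam i b).f x := by
    rintro ⟨_ | _⟩ ⟨_ | _⟩ T g₁ g₂ h
    · change F.obj.map g₁.op t = F.obj.map g₂.op t
      rw [(cancel_mono i).mp h]
    · exact hcompat g₂ g₁ h.symm
    · exact (hcompat g₁ g₂ h).symm
    · exact hcompat' g₁ g₂ h
  obtain ⟨s, hs, hu⟩ := hsh x hx
  refine ⟨s, ⟨hs ⟨false⟩, hs ⟨true⟩⟩, fun y hy => hu y ?_⟩
  rintro ⟨_ | _⟩
  · exact hy.1
  · exact hy.2

theorem existsUnique_of_almostBlowUp (F : HTop.ShH S) {E Z X' X : Over S} (e : E ⟶ X') (π : E ⟶ Z)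
    (b : X' ⟶ X) (i : Z ⟶ X) (h : HTop.IsAlmostBlowUpSquare e.left π.left b.left i.left)
    (t : F.obj.obj (op Z)) (s' : F.obj.obj (op X')) (hts : F.obj.map π.op t = F.obj.map e.op s') :
    ∃! s : F.obj.obj (op X), F.obj.map i.op s = t ∧ F.obj.map b.op s = s' := by
  haveI := h.isClosedImmersion
  haveI := h.finitePresentation_base
  haveI := h.isProper
  haveI := h.finitePresentation
  let 𝓙 := i.left.ker.comap b.left
  let w := (HTop.supportedOn 𝓙).subschemeι
  haveI := BlowUpLib.isIso_restrict h.isBlowUp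
  let U : X.left.Opens := i.left.ker.support.compl
  have hU : ∀ x : X.left, x ∈ U ↔ x ∉ Set.range i.left := fun x => by
    show x ∈ (i.left.ker.support : Set X.left)ᶜ ↔ _
    rw [i.left.support_ker, i.left.isClosedEmbedding.isClosed_range.closure_eq]
    rfl
  refine existsUnique_of_square F e π b i h.isPullback (fun x => ?_) (fun {T} a c hac ha => ?_) t s' hts
  · by_cases hx : x ∈ Set.range i.left
    · exact Or.inl hx
    · right
      obtain ⟨y, hy⟩ := ((w ≫ b.left) ∣_ U).surjective ⟨x, (hU x).mpr hx⟩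
      refine ⟨w y.1, ?_⟩
      rw [← Scheme.Hom.comp_apply, ← morphismRestrict_base_coe, hy]
  · have hc : ∀ q, b.left (c q) ∉ Set.range i.left := fun q => by
      rw [← Scheme.Hom.comp_apply, ← hac, Scheme.Hom.comp_apply]; exact ha q
    have key : ∀ d : T ⟶ X'.left, (∀ q, b.left (d q) ∉ Set.range i.left) →
        ∃ d' : T ⟶ (w ≫ b.left) ⁻¹ᵁ U, d' ≫ Scheme.Opens.ι _ ≫ w = d := fun d hd => by
      have hr : Set.range d ⊆ Set.range (HTop.awayFrom 𝓙).ι := by
        rintro _ ⟨q, rfl⟩
        rw [Scheme.Opens.range_ι, AlmostBlow.awayFrom_comap]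
        show b.left (d q) ∈ HTop.awayFrom i.left.ker
        exact (hU _).mpr (hd q)
      let d₁ : T ⟶ (HTop.supportedOn 𝓙).subscheme :=
        IsOpenImmersion.lift _ d hr ≫ (HTop.awayFrom 𝓙).ι.toImage
      have hd₁ : d₁ ≫ w = d := by
        show (_ ≫ (HTop.awayFrom 𝓙).ι.toImage) ≫ (HTop.awayFrom 𝓙).ι.imageι = d
        rw [Category.assoc, Scheme.Hom.toImage_imageι, IsOpenImmersion.lift_fac]
      have hr' : Set.range d₁ ⊆ Set.range ((w ≫ b.left) ⁻¹ᵁ U).ι := by
        rintro _ ⟨q, rfl⟩
        rw [Scheme.Opens.range_ι]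
        show (w ≫ b.left) (d₁ q) ∈ U
        rw [← Scheme.Hom.comp_apply, ← Category.assoc, hd₁, Scheme.Hom.comp_apply]
        exact (hU _).mpr (hd q)
      exact ⟨IsOpenImmersion.lift _ d₁ hr', by rw [IsOpenImmersion.lift_fac_assoc, hd₁]⟩
    obtain ⟨a', ha'⟩ := key a ha
    obtain ⟨c', hc'⟩ := key c hc
    rw [← ha', ← hc']
    congr 1
    rw [← cancel_mono ((w ≫ b.left) ∣_ U), ← cancel_mono U.ι]
    simp only [Category.assoc, morphismRestrict_ι]
    rw [reassoc_of% ha', reassoc_of% hc', hac]

theorem existsUnique_of_proper_isIso_away (F : HTop.ShH S) {E Z X Y : Over S} (e : E ⟶ X) (π : E ⟶ Z)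
    (f : X ⟶ Y) (i : Z ⟶ Y) [IsProper f.left] [Surjective f.left]
    [LocallyOfFinitePresentation f.left] [IsClosedImmersion i.left]
    [LocallyOfFinitePresentation i.left] (hsq : IsPullback e.left π.left f.left i.left)
    (U : Y.left.Opens) (hU : (U : Set Y.left) = (Set.range i.left.base)ᶜ) (hiso : IsIso (f.left ∣_ U))
    (t : F.obj.obj (op Z)) (s' : F.obj.obj (op X)) (hts : F.obj.map π.op t = F.obj.map e.op s') :
    ∃! s : F.obj.obj (op Y), F.obj.map i.op s = t ∧ F.obj.map f.op s = s' := by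
  refine existsUnique_of_square F e π f i hsq (fun x => Or.inr (f.left.surjective x))
    (fun {T} a c hac ha => ?_) t s' hts
  have hmem : ∀ x, x ∉ Set.range i.left → x ∈ U := fun x hx => by
    show x ∈ (U : Set Y.left)
    rw [hU]; exact hx
  have hr : ∀ d : T ⟶ X.left, (∀ q, f.left (d q) ∉ Set.range i.left) →
      Set.range d ⊆ Set.range (f.left ⁻¹ᵁ U).ι := by
    intro d hd
    rintro _ ⟨q, rfl⟩
    rw [Scheme.Opens.range_ι]
    exact hmem _ (hd q)
  have hc : ∀ q, f.left (c q) ∉ Set.range i.left := fun q => by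
    rw [← Scheme.Hom.comp_apply, ← hac, Scheme.Hom.comp_apply]; exact ha q
  rw [← IsOpenImmersion.lift_fac _ a (hr a ha), ← IsOpenImmersion.lift_fac _ c (hr c hc)]
  congr 1
  rw [← cancel_mono (f.left ∣_ U), ← cancel_mono U.ι]
  simp only [Category.assoc, morphismRestrict_ι, IsOpenImmersion.lift_fac_assoc, hac]

end Groth.Agent.HTopV
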