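import Groth.Agent.HTopV.SubtrusiveApps
import Groth.Agent.S1454

/-!
qfh coverings of a geometrically unibranch scheme.
-/

set_option autoImplicit false
set_option linter.style.haveILetI false
set_option backward.isDefEq.respectTransparency false
universe u

open CategoryTheory CategoryTheory.Limits AlgebraicGeometry TopologicalSpace

namespace Groth.Agent.HTopV

theorem isGenericPoint_apply {X Y : Scheme.{u}} [IrreducibleSpace X] (f : X ⟶ Y) [IsDominant f]
    {x : X} (hx : IsGenericPoint x (Set.univ : Set X)) : IsGenericPoint (f x) (Set.univ : Set Y) := by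
  have h := hx.image f.continuous
  rwa [Set.image_univ, f.denseRange.closure_range] at h

theorem univSubmersive_sigmaDesc_of_dominant {X : Scheme.{u}} [IsLocallyNoetherian X]
    [IrreducibleSpace X] (hX : ∀ x : X, CAlg2.IsGeomUnibranch (X.presheaf.stalk x)) {ι : Type u}
    (Y : ι → Scheme.{u}) (f : ∀ i, Y i ⟶ X) [∀ i, IsDominant (f i)] [∀ i, LocallyOfFiniteType (f i)]
    [∀ i, LocallyQuasiFinite (f i)] [∀ i, IrreducibleSpace (Y i)]
    (h : ∀ x : X, ∃ (i : ι) (u : Y i), f i u = x) : SGA1.UnivSubmersive (Sigma.desc f) := by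
  haveI : ∀ i, UniversallyOpen (f i) := fun i => by
    refine Groth.Agent.S1454.result (f i) hX fun Z hZ x hx => ?_
    rw [irreducibleComponents_eq_singleton, Set.mem_singleton_iff] at hZ
    subst hZ
    exact ⟨Set.univ, by rw [irreducibleComponents_eq_singleton]; exact Set.mem_singleton _,
      isGenericPoint_apply (f i) hx⟩
  haveI : UniversallyOpen (Sigma.desc f) := IsZariskiLocalAtSource.sigmaDesc inferInstance
  haveI : Surjective (Sigma.desc f) := by
    refine ⟨fun x => ?_⟩
    obtain ⟨i, u, rfl⟩ := h x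
    exact ⟨Sigma.ι Y i u, by rw [← Scheme.Hom.comp_apply, Sigma.ι_desc]⟩
  intro P X' i₁ i₂ f' hp
  haveI : Surjective f' := MorphismProperty.of_isPullback (P := @Surjective) hp.flip ‹_›
  haveI : UniversallyOpen f' := MorphismProperty.of_isPullback (P := @UniversallyOpen) hp.flip ‹_›
  exact f'.isOpenMap.isQuotientMap f'.continuous f'.surjective

theorem DVRLift.of_comp {X Y S : Scheme.{u}} {m : X ⟶ Y} {f : Y ⟶ S} (h : DVRLift (m ≫ f)) :
    DVRLift f := by
  intro R _ _ _ g
  obtain ⟨w', w, hw, h', hc⟩ := h R g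
  let k : pullback g (m ≫ f) ⟶ pullback g f :=
    pullback.lift (pullback.fst _ _) (pullback.snd _ _ ≫ m)
      (by rw [Category.assoc, ← pullback.condition])
  exact ⟨k w', k w, hw.map k.continuous, by rw [← Scheme.Hom.comp_apply, pullback.lift_fst, h'],
    by rw [← Scheme.Hom.comp_apply, pullback.lift_fst, hc]⟩

theorem univSubmersive_iff_dominant_cover {X : Scheme.{u}} [IsNoetherian X]
    [IrreducibleSpace ↥X] (hX : ∀ x : X, CAlg2.IsGeomUnibranch (X.presheaf.stalk x))
    (E : PreZeroHypercover.{u} X) [Finite E.I₀] [∀ i, LocallyOfFiniteType (E.f i)]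
    [∀ i, QuasiCompact (E.f i)] [∀ i, LocallyQuasiFinite (E.f i)] [∀ i, IrreducibleSpace ↥(E.X i)] :
    (SGA1.UnivSubmersive (Sigma.desc E.f) ↔
      ∀ x : X, ∃ (i : E.I₀) (u : E.X i), IsDominant (E.f i) ∧ E.f i u = x) ∧
    ((∀ x : X, ∃ (i : E.I₀) (u : E.X i), IsDominant (E.f i) ∧ E.f i u = x) →
      SGA1.UnivSubmersive (Sigma.desc fun j : {i : E.I₀ // IsDominant (E.f i)} => E.f j.1)) := by
  have hsub : (∀ x : X, ∃ (i : E.I₀) (u : E.X i), IsDominant (E.f i) ∧ E.f i u = x) →
      SGA1.UnivSubmersive (Sigma.desc fun j : {i : E.I₀ // IsDominant (E.f i)} => E.f j.1) := fun h => by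
    haveI : ∀ j : {i : E.I₀ // IsDominant (E.f i)}, IsDominant (E.f j.1) := fun j => j.2
    refine univSubmersive_sigmaDesc_of_dominant hX (fun j : {i : E.I₀ // IsDominant (E.f i)} => E.X j.1)
      (fun j => E.f j.1) fun x => ?_
    obtain ⟨i, u, hi, hu⟩ := h x
    exact ⟨⟨i, hi⟩, u, hu⟩
  refine ⟨⟨fun h x => ?_, fun h => ?_⟩, hsub⟩
  · obtain ⟨i, ξ, u, -, hu, hC⟩ := exists_specializes_over_maximal E h x
    refine ⟨i, u, ⟨?_⟩, hu⟩
    rw [irreducibleComponents_eq_singleton, Set.mem_singleton_iff] at hC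
    refine dense_iff_closure_eq.mpr (Set.eq_univ_of_univ_subset ?_)
    rw [← hC]
    exact closure_mono (Set.singleton_subset_iff.mpr ⟨ξ, rfl⟩)
  · haveI := quasiCompact_sigmaDesc E
    let m : (∐ fun j : {i : E.I₀ // IsDominant (E.f i)} => E.X j.1) ⟶ ∐ E.X :=
      Sigma.desc fun j => Sigma.ι E.X j.1
    have e : m ≫ Sigma.desc E.f = Sigma.desc fun j : {i : E.I₀ // IsDominant (E.f i)} => E.f j.1 :=
      Sigma.hom_ext _ _ fun j => by simp [m]
    exact univSubmersive_of_dvrLift _ (DVRLift.of_comp (m := m)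
      (by rw [e]; exact dvrLift_of_univSubmersive _ (hsub h)))

end Groth.Agent.HTopV
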